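import Groth.Agent.ArtFunLib.HilbIdeal

/-! Vanishing of `Ext¹(I₀, O_Y)` gives smoothness of the local Hilbert functor. -/

set_option autoImplicit false
set_option backward.isDefEq.respectTransparency false
universe u

open CategoryTheory CategoryTheory.Limits AlgebraicGeometry ArtFun ArtFun.Art Opposite

namespace Groth.Agent.ArtFunLib.HilbSmooth

open HilbAffine HilbSit HilbMod HilbIdeal

variable {k : Type u} [Field k] (X : Scheme.{u}) (x : X ⟶ specPt k) (I₀ : X.IdealSheafData)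

theorem small_surjective_of {B A : Art k k} (p : B ⟶ A) (hp : IsSmallExt p) (IA : (localHilb X x I₀).obj A)
    (hext : ∀ (t : B) (_ : RingHom.ker p.toAlgHom.toRingHom = Ideal.span {t}) (_ : t ≠ 0)
      (_ : IsLocalRing.maximalIdeal B * Ideal.span {t} = ⊥) (P : (XA x B).IdealSheafData)
      (_ : ∀ U, P.ideal (W x B U) = (IA.1.ideal (W x A U)).comap (pi x p U))
      (φ : G P ⟶ ClSub.idealMod I₀) (_ : Epi φ)
      (_ : ∀ (U : X.affineOpens) s, OmegaSh.idealSect I₀ U.1 (φ.app U.1 s) = rho x B U (el P U s))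
      (κ : kernel φ ⟶ ClSub.quotMod I₀)
      (_ : ∀ (U : X.affineOpens) kk μ z, μ ∈ (IsLocalRing.maximalIdeal B).map (c x B U) * P.ideal (W x B U) →
        el P U ((kernel.ι φ).app U.1 kk) = μ + c x B U t * z →
        κ.app U.1 kk = I₀.subschemeι.app U.1 (rho x B U z)),
      ∃ θ : G P ⟶ ClSub.quotMod I₀, kernel.ι φ ≫ θ = κ) :
    ∃ I : (localHilb X x I₀).obj B, I.1.comap (XAmap x p) = IA.1 := by
  obtain ⟨t, ht⟩ := hp.2.2.1
  have hkt : RingHom.ker p.toAlgHom.toRingHom = Ideal.span {t} := ht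
  have ht0 : t ≠ 0 := fun h0 => hp.2.1 (ht.trans (by
    show Ideal.span {t} = ⊥; rw [h0, Ideal.span_singleton_zero]))
  have hm0 : IsLocalRing.maximalIdeal B * Ideal.span {t} = ⊥ := by rw [← hkt]; exact hp.2.2.2
  have hpt : p t = 0 := RingHom.mem_ker.1 (hkt.ge (Ideal.mem_span_singleton_self t))
  have htm : t ∈ IsLocalRing.maximalIdeal B := ArtFunLib.ker_le_maximalIdeal p (hkt.ge (Ideal.mem_span_singleton_self t))
  haveI := isClosedImmersion_map x p hp.1
  have hIA : ∀ U, ((Ideal.Quotient.mk (IA.1.ideal (W x A U))).comp (c x A U)).Flat :=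
    fun U => flat_quotient x IA.1 IA.2.1 U
  have h0A : ∀ U, (IA.1.ideal (W x A U)).map (rho x A U) = I₀.ideal U := fun U => by
    rw [← comap_incl_ideal, IA.2.2]
  obtain ⟨P, hP⟩ : ∃ P : (XA x B).IdealSheafData,
      ∀ U, P.ideal (W x B U) = (IA.1.ideal (W x A U)).comap (pi x p U) :=
    ⟨IA.1.map (XAmap x p), fun U => Ideal.ext fun a =>
      mem_map_iff (XAmap x p) IA.1 (W x B U) (W x A U) (pi_le x p U) (pi_le x p U).le a⟩
  have h0 : ∀ U, (P.ideal (W x B U)).map (rho x B U) = I₀.ideal U := fun U => by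
    rw [hP, show rho x B U = (rho x A U).comp (pi x p U) from RingHom.ext fun a => (rho_pi x p U a).symm,
      ← Ideal.map_map, Ideal.map_comap_of_surjective _ (pi_spec x p hp.1 U).1, h0A]
  obtain ⟨φ, hepi, hφ⟩ := exists_phi P I₀ h0
  obtain ⟨θ, hθ⟩ := exists_theta_of P I₀ φ hφ t htm
    (fun U => (IsLocalRing.maximalIdeal B).map (c x B U) * P.ideal (W x B U)) rfl
    (fun U e he hρ => by
      rw [hP] at he
      obtain ⟨μ, hμ, w, hw, e'⟩ := Submodule.mem_sup.1
        (HilbObsRing.inf_ker_le (sit x p hp.1 t hkt ht0 hm0 U) (hIA U) ⟨he, RingHom.mem_ker.2 hρ⟩)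
      obtain ⟨z, rfl⟩ := Ideal.mem_span_singleton'.1 hw
      exact ⟨μ, z, by rw [hP]; exact hμ, e'.symm.trans (by rw [mul_comm z]; rfl)⟩)
    (fun U z hz => by
      rw [hP] at hz
      have := HilbObsRing.rho_mem_of_mem_mul (sit x p hp.1 t hkt ht0 hm0 U) (hIA U) z hz
      rw [← RingHom.mem_ker, I₀.ker_subschemeι_app, ← h0A U]
      exact this)
    (fun κ hκ => hext t hkt ht0 hm0 P hP φ hepi hφ κ hκ)
  have hlin : ∀ (U : X.affineOpens) s (R : Γ(XA x B, (W x B U).1)) s', el P U s' = R * el P U s →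
      θ.app U.1 s' = rho x B U R • θ.app U.1 s := fun U s R s' he => by
    rw [← Scheme.Modules.Hom.app_smul, ← sub_eq_zero, ← map_sub]
    rw [hθ U _ ((R - fstPull x B U (rho x B U R)) * el P U s) 0 ?_ ?_, map_zero]
    · exact map_zero (I₀.subschemeι.app U.1).hom
    · refine Ideal.mul_mem_mul ?_ (el_mem P U s)
      rw [← (rho_spec x B U).2, RingHom.mem_ker, map_sub, rho_fst, sub_self]
    · rw [mul_zero, add_zero, sub_mul, ← he, ← el_smul, map_sub]
  obtain ⟨I, hI⟩ := exists_ideal P I₀ θ hlin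
  have hcz : ∀ U z, ∃ s, el P U s = c x B U t * z ∧ θ.app U.1 s = I₀.subschemeι.app U.1 (rho x B U z) := fun U z => by
    obtain ⟨s, hs⟩ := exists_el P U (c x B U t * z) (by
      rw [hP, Ideal.mem_comap, map_mul, pi_c, hpt, map_zero, zero_mul]; exact zero_mem _)
    exact ⟨s, hs, hθ U s 0 z (zero_mem _) (by rw [hs, zero_add])⟩
  have hmapA : ∀ U, (I.ideal (W x B U)).map (pi x p U) = IA.1.ideal (W x A U) := fun U => by
    refine le_antisymm (Ideal.map_le_iff_le_comap.2 fun a ha => ?_) fun α hα => ?_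
    · obtain ⟨s, rfl, -⟩ := (hI U a).1 ha
      exact hP U ▸ el_mem P U s
    · obtain ⟨a, rfl⟩ := (pi_spec x p hp.1 U).1 α
      obtain ⟨s, hs⟩ := exists_el P U a (by rw [hP]; exact hα)
      obtain ⟨w, hw⟩ := I₀.subschemeι_app_surjective U (θ.app U.1 s)
      obtain ⟨z, hz⟩ := (rho_spec x B U).1 w
      obtain ⟨s', hs', hs'θ⟩ := hcz U z
      have hmem : a - c x B U t * z ∈ I.ideal (W x B U) :=
        (hI U _).2 ⟨s - s', by rw [map_sub, hs, hs'], by rw [map_sub, hs'θ, hz, hw]; exact sub_self _⟩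
      have h5 := Ideal.mem_map_of_mem (pi x p U) hmem
      rwa [map_sub, map_mul, pi_c, hpt, map_zero, zero_mul, sub_zero] at h5
  have hcomap : I.comap (XAmap x p) = IA.1 := HilbAffine.ext_ideal x fun U => by
    rw [comap_map_ideal, hmapA]
  refine ⟨⟨I, ?_, ?_⟩, hcomap⟩
  · refine flat_of_ideals I fun U => ?_
    refine HilbObsRing.flat_of_lift (sit x p hp.1 t hkt ht0 hm0 U) (hIA U) (rho_spec x B U).1
      (I.ideal (W x B U)) (hmapA U) fun z hz => ?_
    obtain ⟨s, hs, hs0⟩ := (hI U _).1 hz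
    obtain ⟨s', hs', hs'θ⟩ := hcz U z
    obtain rfl : s = s' := el_injective P U (hs.trans hs'.symm)
    show rho x B U z ∈ (IA.1.ideal (W x A U)).map (rho x A U)
    rw [h0A, ← I₀.ker_subschemeι_app, RingHom.mem_ker]
    exact hs'θ.symm.trans hs0
  · rw [← XAincl_XAmap x p, Scheme.IdealSheafData.comap_comp, hcomap, IA.2.2]

theorem small_surjective [HasExt.{u} X.Modules] (h : Subsingleton (Abelian.Ext.{u} (ClSub.idealMod I₀) (ClSub.quotMod I₀) 1))
    {B A : Art k k} (p : B ⟶ A) (hp : IsSmallExt p) (IA : (localHilb X x I₀).obj A) :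
    ∃ I : (localHilb X x I₀).obj B, I.1.comap (XAmap x p) = IA.1 :=
  small_surjective_of X x I₀ p hp IA fun _ _ _ _ _ _ φ hepi _ κ _ => haveI := hepi; exists_extend φ κ h

theorem isSmooth [HasExt.{u} X.Modules] (h : Subsingleton (Abelian.Ext.{u} (ClSub.idealMod I₀) (ClSub.quotMod I₀) 1)) :
    IsSmoothFunctor (localHilb X x I₀) := by
  intro B A p hp
  refine ArtFunLib.surjective_induction (P := fun _ _ q => Function.Surjective ((localHilb X x I₀).map q)) ?_ ?_ ?_ p hp
  · intro A B e he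
    haveI := he
    exact ((isIso_iff_bijective _).1 (inferInstance : IsIso ((localHilb X x I₀).map e))).2
  · intro A B q hq IA
    obtain ⟨I, hI⟩ := small_surjective X x I₀ h q hq IA
    exact ⟨I, Subtype.ext hI⟩
  · intro A B C q r _ _ h1 h2
    rw [Functor.map_comp]
    exact h2.comp h1

end Groth.Agent.ArtFunLib.HilbSmooth
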