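import Groth.Agent.ArtFunLib.HilbObsKappa
import Groth.Agent.ArtFunLib.Basic
import Groth.Agent.ArtFunLib.HilbSmooth
import Groth.Prelude.Def_ArtFun3
import Mathlib.LinearAlgebra.TensorProduct.Basis

/-! An obstruction theory for the local Hilbert functor with values in `H¹(Hom(I₀, O_Y))`. -/

set_option autoImplicit false
set_option backward.isDefEq.respectTransparency false
set_option backward.isDefEq.respectTransparency.types false
set_option linter.style.haveILetI false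
set_option maxHeartbeats 1000000
universe u

open CategoryTheory CategoryTheory.Limits AlgebraicGeometry ArtFun ArtFun.Art Opposite TopologicalSpace
open scoped TensorProduct

noncomputable section

namespace Groth.Agent.ArtFunLib.HilbObs

open HilbAffine HilbSit HilbMod HilbObsKappa

variable {k : Type u} [Field k]

section Algebra

variable {B A : Art k k} {p : B ⟶ A}

theorem algebraMap_res_smul (hp : IsSemismallExt p) (b : B) {a : B} (ha : a ∈ RingHom.ker p.toAlgHom) :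
    b * a = algebraMap k B (B.res b) * a := by
  rw [← sub_eq_zero, ← sub_mul, ← Ideal.mem_bot, ← hp.2]
  refine Ideal.mul_mem_mul ((Art.mem_maximalIdeal_iff B _).2 ?_) ha
  rw [map_sub, AlgHom.commutes]
  exact sub_self _

/-- A subspace of the kernel of a semismall extension is an ideal. -/
def subIdeal (hp : IsSemismallExt p) (S : Submodule k ↥(RingHom.ker p.toAlgHom)) : Ideal B where
  carrier := {a | ∃ h : a ∈ RingHom.ker p.toAlgHom, (⟨a, h⟩ : ↥(RingHom.ker p.toAlgHom)) ∈ S}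
  add_mem' := fun {a b} ⟨ha, ha'⟩ ⟨hb, hb'⟩ => ⟨add_mem ha hb, add_mem ha' hb'⟩
  zero_mem' := ⟨zero_mem _, S.zero_mem⟩
  smul_mem' b a := fun ⟨ha, ha'⟩ => ⟨Ideal.mul_mem_left _ b ha, by
    convert S.smul_mem (B.res b) ha' using 1
    refine Subtype.ext ?_
    show b * a = B.res b • a
    rw [Algebra.smul_def, algebraMap_res_smul hp b ha]⟩

theorem subIdeal_le (hp : IsSemismallExt p) (S : Submodule k ↥(RingHom.ker p.toAlgHom)) :
    subIdeal hp S ≤ RingHom.ker p.toAlgHom := fun _ h => h.1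

theorem finite_ker (hp : IsSemismallExt p) : Module.Finite k ↥(RingHom.ker p.toAlgHom) := by
  classical
  obtain ⟨s, hs⟩ := IsNoetherian.noetherian (RingHom.ker p.toAlgHom)
  have hsJ : ∀ a ∈ s, a ∈ RingHom.ker p.toAlgHom := fun a ha => hs ▸ Submodule.subset_span ha
  refine ⟨⟨s.attach.image (fun a => ⟨a.1, hsJ a.1 a.2⟩), eq_top_iff.2 fun w _ => ?_⟩⟩
  obtain ⟨w, hw⟩ := w
  have key : ∀ v : B, v ∈ Submodule.span B (s : Set B) → ∀ hv : v ∈ RingHom.ker p.toAlgHom,
      (⟨v, hv⟩ : ↥(RingHom.ker p.toAlgHom)) ∈ Submodule.span k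
        ((s.attach.image (fun a => (⟨a.1, hsJ a.1 a.2⟩ : ↥(RingHom.ker p.toAlgHom))) :
          Finset ↥(RingHom.ker p.toAlgHom)) : Set ↥(RingHom.ker p.toAlgHom)) := fun v hv => by
    induction hv using Submodule.span_induction with
    | mem v hv => exact fun _ => Submodule.subset_span (Finset.mem_coe.2 (Finset.mem_image.2 ⟨⟨v, hv⟩, Finset.mem_attach _ _, rfl⟩))
    | zero => exact fun _ => Submodule.zero_mem _
    | add v₁ v₂ h₁ h₂ ih₁ ih₂ =>
      intro _
      have m₁ : v₁ ∈ RingHom.ker p.toAlgHom := hs.le h₁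
      have m₂ : v₂ ∈ RingHom.ker p.toAlgHom := hs.le h₂
      exact Submodule.add_mem _ (ih₁ m₁) (ih₂ m₂)
    | smul b v h ih =>
      intro _
      have m : v ∈ RingHom.ker p.toAlgHom := hs.le h
      convert Submodule.smul_mem _ (B.res b) (ih m) using 1
      refine Subtype.ext ?_
      show b * v = B.res b • v
      rw [Algebra.smul_def, algebraMap_res_smul hp b m]
  exact key w (hs.ge hw) hw

theorem isSemismall_quotFactor (hp : IsSemismallExt p) {K : Ideal B} (hK : K ≤ IsLocalRing.maximalIdeal B)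
    (hKJ : K ≤ RingHom.ker p.toAlgHom) : IsSemismallExt (quotFactor hK p hKJ) := by
  have hq : Function.Surjective (quotMk B K hK) := quotMk_surjective B K hK
  refine ⟨fun a => ?_, ?_⟩
  · obtain ⟨b, rfl⟩ := hp.1 a
    exact ⟨quotMk B K hK b, rfl⟩
  rw [← IsLocalRing.map_maximalIdeal_of_surjective (quotMk B K hK).toAlgHom.toRingHom hq,
    show RingHom.ker (quotFactor hK p hKJ).toAlgHom =
      (RingHom.ker p.toAlgHom).map (quotMk B K hK).toAlgHom.toRingHom from ?_, ← Ideal.map_mul, hp.2, Ideal.map_bot]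
  refine Ideal.ext fun w => ⟨fun hw => ?_, fun hw => ?_⟩
  · obtain ⟨b, rfl⟩ := hq w
    exact Ideal.mem_map_of_mem _ (RingHom.mem_ker.2 (RingHom.mem_ker.1 hw :) :)
  · refine (Ideal.map_le_iff_le_comap.2 fun b hb => ?_ :
      (RingHom.ker p.toAlgHom).map (quotMk B K hK).toAlgHom.toRingHom ≤ RingHom.ker (quotFactor hK p hKJ).toAlgHom) hw
    exact (RingHom.mem_ker.1 hb :)

/-- A functional gives a small quotient. -/
theorem exists_quot (hp : IsSemismallExt p) (ℓ : ↥(RingHom.ker p.toAlgHom) →ₗ[k] k) (hℓ : ℓ ≠ 0) :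
    ∃ (B' : Art k k) (q : B ⟶ B') (p' : B' ⟶ A) (_ : q ≫ p' = p) (_ : IsSmallExt p')
      (qK : ↥(RingHom.ker p.toAlgHom) →ₗ[k] ↥(RingHom.ker p'.toAlgHom)) (_ : ∀ a, (qK a).1 = q a.1)
      (t : B') (ℓ₀ : ↥(RingHom.ker p'.toAlgHom) →ₗ[k] k),
      RingHom.ker p'.toAlgHom.toRingHom = Ideal.span {t} ∧ t ≠ 0 ∧ (∀ a, a.1 = algebraMap k B' (ℓ₀ a) * t) ∧
        ℓ₀.comp qK = ℓ := by
  let K := subIdeal hp (LinearMap.ker ℓ)
  have hKJ : K ≤ RingHom.ker p.toAlgHom := subIdeal_le hp _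
  have hK : K ≤ IsLocalRing.maximalIdeal B := hKJ.trans (ArtFunLib.ker_le_maximalIdeal p)
  let q := quotMk B K hK
  let p' := quotFactor hK p hKJ
  have hp' := isSemismall_quotFactor hp hK hKJ
  obtain ⟨t₀, ht₀⟩ : ∃ t₀, ℓ t₀ = 1 := by
    obtain ⟨a, ha⟩ : ∃ a, ℓ a ≠ 0 := by
      by_contra h
      push Not at h
      exact hℓ (LinearMap.ext h)
    exact ⟨(ℓ a)⁻¹ • a, by rw [map_smul, smul_eq_mul, inv_mul_cancel₀ ha]⟩
  let qK : ↥(RingHom.ker p.toAlgHom) →ₗ[k] ↥(RingHom.ker p'.toAlgHom) := (kerToQuot hK p hKJ).restrictScalars k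
  have hqK : ∀ a, (qK a).1 = q a.1 := fun a => rfl
  have hq0 : ∀ a : ↥(RingHom.ker p.toAlgHom), q a.1 = 0 ↔ ℓ a = 0 := fun a => by
    show Ideal.Quotient.mk K a.1 = 0 ↔ _
    rw [Ideal.Quotient.eq_zero_iff_mem]
    exact ⟨fun ⟨_, h⟩ => h, fun h => ⟨a.2, h⟩⟩
  let t : quot B K hK := q t₀.1
  have ht0 : t ≠ 0 := fun h => one_ne_zero (ht₀.symm.trans ((hq0 t₀).1 h))
  have hcoord : ∀ a : ↥(RingHom.ker p.toAlgHom), q a.1 = algebraMap k _ (ℓ a) * t := fun a => by
    have h : q (a - ℓ a • t₀ : ↥(RingHom.ker p.toAlgHom)).1 = 0 := (hq0 _).2 (by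
      rw [map_sub, map_smul, ht₀, smul_eq_mul, mul_one, sub_self])
    rw [← sub_eq_zero, ← h]
    show q a.1 - algebraMap k _ (ℓ a) * q t₀.1 = q (a.1 - ℓ a • t₀.1)
    rw [map_sub, Algebra.smul_def, map_mul, AlgHom.commutes]
  have hsurj : ∀ w : ↥(RingHom.ker p'.toAlgHom), ∃ a, qK a = w := fun ⟨w, hw⟩ => by
    obtain ⟨b, rfl⟩ := quotMk_surjective B K hK w
    exact ⟨⟨b, (RingHom.mem_ker.1 hw :)⟩, rfl⟩
  let e : k →ₗ[k] ↥(RingHom.ker p'.toAlgHom) := LinearMap.toSpanSingleton k _ (qK t₀)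
  have hev : ∀ r, (e r).1 = algebraMap k _ r * t := fun r => Algebra.smul_def r t
  have hbij : Function.Bijective e := by
    refine ⟨(injective_iff_map_eq_zero e).2 fun r hr => ?_, fun w => ?_⟩
    · have h := congrArg Subtype.val hr
      rw [hev] at h
      by_contra hr0
      exact ht0 ((IsUnit.mul_right_eq_zero ((isUnit_iff_ne_zero.2 hr0).map (algebraMap k _))).1 h)
    · obtain ⟨a, rfl⟩ := hsurj w
      exact ⟨ℓ a, Subtype.ext ((hev _).trans ((hcoord a).symm.trans (hqK a).symm))⟩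
  let ℓ₀ := (LinearEquiv.ofBijective e hbij).symm.toLinearMap
  have hℓ₀ : ∀ w, e (ℓ₀ w) = w := fun w => (LinearEquiv.ofBijective e hbij).apply_symm_apply w
  have hspan : RingHom.ker p'.toAlgHom.toRingHom = Ideal.span {t} := by
    refine le_antisymm (fun w hw => ?_) (Ideal.span_le.2 (Set.singleton_subset_iff.2 (qK t₀).2))
    rw [show w = algebraMap k _ (ℓ₀ ⟨w, hw⟩) * t from ((hev _).symm.trans (congrArg Subtype.val (hℓ₀ ⟨w, hw⟩))).symm]
    exact Ideal.mem_span_singleton'.2 ⟨_, rfl⟩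
  refine ⟨quot B K hK, q, p', quotMk_quotFactor hK p hKJ, ⟨hp'.1, fun h => ht0 ?_, ⟨⟨t, hspan⟩⟩, hp'.2⟩,
    qK, hqK, t, ℓ₀, hspan, ht0, fun a => ((hev _).symm.trans (congrArg Subtype.val (hℓ₀ a))).symm,
    LinearMap.ext fun a => hbij.1 ((hℓ₀ _).trans (Subtype.ext ((hqK a).trans ((hcoord a).trans (hev _).symm))))⟩
  exact Ideal.mem_bot.1 ((show RingHom.ker p'.toAlgHom = ⊥ from h).le (qK t₀).2)

end Algebra

section Tensor

variable {V J : Type u} [AddCommGroup V] [Module k V] [AddCommGroup J] [Module k J]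

/-- Evaluation of the second factor. -/
def ct (ℓ : J →ₗ[k] k) : V ⊗[k] J →ₗ[k] V := (TensorProduct.rid k V).toLinearMap.comp (LinearMap.lTensor V ℓ)

theorem ct_tmul (ℓ : J →ₗ[k] k) (v : V) (a : J) : ct ℓ (v ⊗ₜ a) = ℓ a • v := by
  simp [ct]

theorem eq_sum_ct {ι : Type} [Fintype ι] (b : Module.Basis ι k J) (w : V ⊗[k] J) :
    w = ∑ j, ct (b.coord j) w ⊗ₜ[k] b j := by
  induction w using TensorProduct.induction_on with
  | zero => simp
  | tmul v a =>
    simp only [ct_tmul, TensorProduct.smul_tmul]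
    rw [← TensorProduct.tmul_sum]
    exact congrArg (v ⊗ₜ[k] ·) (b.sum_repr a).symm
  | add w₁ w₂ h₁ h₂ =>
    simp only [map_add, TensorProduct.add_tmul, Finset.sum_add_distrib]
    rw [← h₁, ← h₂]

theorem ext_ct [Module.Finite k J] {w w' : V ⊗[k] J} (h : ∀ ℓ, ct ℓ w = ct ℓ w') : w = w' := by
  rw [eq_sum_ct (Module.finBasis k J) w, eq_sum_ct (Module.finBasis k J) w']
  simp only [h]

theorem exists_tens [Module.Finite k J] (o : (J →ₗ[k] k) →ₗ[k] V) : ∃ w : V ⊗[k] J, ∀ ℓ, ct ℓ w = o ℓ := by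
  let b := Module.finBasis k J
  refine ⟨∑ j, o (b.coord j) ⊗ₜ[k] b j, fun ℓ => ?_⟩
  rw [map_sum]
  simp only [ct_tmul, ← map_smul, ← map_sum]
  exact congrArg o (b.sum_dual_apply_smul_coord ℓ)

theorem ct_lTensor {J' : Type u} [AddCommGroup J'] [Module k J'] (f : J →ₗ[k] J') (ℓ : J' →ₗ[k] k) (w : V ⊗[k] J) :
    ct ℓ (LinearMap.lTensor V f w) = ct (ℓ.comp f) w := by
  induction w using TensorProduct.induction_on with
  | zero => simp
  | tmul v a => rw [LinearMap.lTensor_tmul, ct_tmul, ct_tmul]; rfl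
  | add w₁ w₂ h₁ h₂ => rw [map_add, map_add, map_add, h₁, h₂]

end Tensor

variable {X : Scheme.{u}} (x : X ⟶ specPt k) (I₀ : X.IdealSheafData) [X.Over (Spec (CommRingCat.of k))]

/-- The obstruction space. -/
abbrev V : Type u := Coh.HH X ((SheafHomX.hom (ClSub.idealMod I₀)).obj (ClSub.quotMod I₀)) 1

variable {x I₀} (hX : X ↘ Spec (CommRingCat.of k) = x)
  (hd : ∀ (B A : Art k k) (p : B ⟶ A), IsSmallExt p → ∀ IA, HilbLocSmooth.HasLocalData x I₀ p IA)

include hd in
theorem exists_psi {B A : Art k k} (p : B ⟶ A) (hp : IsSemismallExt p) (IA : (localHilb X x I₀).obj A)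
    (ℓ : ↥(RingHom.ker p.toAlgHom) →ₗ[k] k) :
    ∃ ψ, KSpec x p IA hp ℓ ψ ∧ LocSplit.LocExtends (phi x p IA hp) ψ := by
  by_cases hℓ : ℓ = 0
  · subst hℓ
    exact ⟨0, KSpec.zero, fun q => ⟨⊤, trivial, 0, by
      rw [comp_zero]; exact (Functor.map_zero _ _ _).symm⟩⟩
  obtain ⟨B', q, p', hq, hp', qK, hqK, t, ℓ₀, ht, ht0, hℓ₀, rfl⟩ := exists_quot hp ℓ hℓ
  obtain ⟨ψ', hψ', hψ'l⟩ := exists_small (x := x) (IA := IA) hp' t ht ht0 (by rw [← ht]; exact hp'.2.2.2) ℓ₀ hℓ₀
  obtain ⟨ν, hν, hνv⟩ := exists_nu x p IA q p' hq hp hp'.isSemismallExt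
  exact ⟨_, KSpec.pull qK hqK hν hνv hψ' hq, locExtends_pull hν (hψ'l (hd _ _ p' hp' IA))⟩

/-- The obstruction of one functional. -/
def obs1 {B A : Art k k} (p : B ⟶ A) (hp : IsSemismallExt p) (IA : (localHilb X x I₀).obj A)
    (ℓ : ↥(RingHom.ker p.toAlgHom) →ₗ[k] k) : V I₀ :=
  LocSplit.obsClass k (phi x p IA hp) _ (exists_psi hd p hp IA ℓ).choose_spec.2

theorem obs1_eq {B A : Art k k} (p : B ⟶ A) (hp : IsSemismallExt p) (IA : (localHilb X x I₀).obj A)
    (ℓ : ↥(RingHom.ker p.toAlgHom) →ₗ[k] k) {ψ : kernel (phi x p IA hp) ⟶ ClSub.quotMod I₀}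
    (h : KSpec x p IA hp ℓ ψ) (hl : LocSplit.LocExtends (phi x p IA hp) ψ) :
    obs1 hd p hp IA ℓ = LocSplit.obsClass k (phi x p IA hp) ψ hl := by
  obtain rfl := h.unique (exists_psi hd p hp IA ℓ).choose_spec.1
  rfl

include hX in
theorem exists_obs {B A : Art k k} (p : B ⟶ A) (hp : IsSemismallExt p) (IA : (localHilb X x I₀).obj A) :
    ∃ w : V I₀ ⊗[k] ↥(RingHom.ker p.toAlgHom), ∀ ℓ, ct ℓ w = obs1 hd p hp IA ℓ := by
  haveI := finite_ker hp
  refine exists_tens
    { toFun := obs1 hd p hp IA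
      map_add' := fun ℓ ℓ' => ?_
      map_smul' := fun b ℓ => ?_ }
  · obtain ⟨ψ, h, hl⟩ := exists_psi hd p hp IA ℓ
    obtain ⟨ψ', h', hl'⟩ := exists_psi hd p hp IA ℓ'
    obtain ⟨ψ'', h'', hl''⟩ := exists_psi hd p hp IA (ℓ + ℓ')
    obtain rfl := h''.unique (h.add h')
    rw [obs1_eq hd p hp IA _ h hl, obs1_eq hd p hp IA _ h' hl', obs1_eq hd p hp IA _ h'' hl'']
    exact LocSplit.obsClass_add k _ ψ ψ' hl hl' hl''
  · obtain ⟨ψ, h, hl⟩ := exists_psi hd p hp IA ℓ
    rw [obs1_eq hd p hp IA _ h hl, obs1_eq hd p hp IA _ (h.smul hX b) (LocSplit.locExtends_comp hl _), RingHom.id_apply]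
    exact LocSplit.obsClass_smul k _ ψ b hl _

theorem obs1_pull {B B' A : Art k k} {q : B ⟶ B'} {p : B ⟶ A} {p' : B' ⟶ A} (hq : q ≫ p' = p)
    (hp : IsSemismallExt p) (hp' : IsSemismallExt p')
    (qK : ↥(RingHom.ker p.toAlgHom) →ₗ[k] ↥(RingHom.ker p'.toAlgHom)) (hqK : ∀ a, (qK a).1 = q a.1)
    (IA : (localHilb X x I₀).obj A) (ℓ' : ↥(RingHom.ker p'.toAlgHom) →ₗ[k] k) :
    obs1 hd p hp IA (ℓ'.comp qK) = obs1 hd p' hp' IA ℓ' := by
  obtain ⟨ψ', h', hl'⟩ := exists_psi hd p' hp' IA ℓ'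
  obtain ⟨ν, hν, hνv⟩ := exists_nu x p IA q p' hq hp hp'
  rw [obs1_eq hd p hp IA _ (KSpec.pull qK hqK hν hνv h' hq) (locExtends_pull hν hl'), obs1_eq hd p' hp' IA _ h' hl']
  have h := LocSplit.mapLin_obsClass k (phi x p IA hp) _ (phi x p' IA hp') ψ' ν hν (𝟙 _) (Category.comp_id _).symm
    (locExtends_pull hν hl') hl'
  rw [← h, CategoryTheory.Functor.map_id, FModLib.mapLin_id']

include hX in
theorem small_exists_of_obs_eq_zero {B A : Art k k} (p : B ⟶ A) (hp : IsSmallExt p)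
    (IA : (localHilb X x I₀).obj A) (t : B) (ht : RingHom.ker p.toAlgHom.toRingHom = Ideal.span {t})
    (ℓ₀ : ↥(RingHom.ker p.toAlgHom) →ₗ[k] k) (hℓ₀ : ∀ a, a.1 = algebraMap k B (ℓ₀ a) * t)
    (h0 : obs1 hd p hp.isSemismallExt IA ℓ₀ = 0) : ∃ I, (localHilb X x I₀).map p I = IA := by
  obtain ⟨I, hI⟩ := HilbSmooth.small_surjective_of X x I₀ p hp IA fun t' ht' ht'0 hm P hP φ hepi hφ κ hκ => by
    obtain rfl : P = amb x p IA := HilbAffine.ext_ideal x fun U => (hP U).trans (amb_ideal x p IA U).symm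
    obtain rfl : φ = phi x p IA hp.isSemismallExt := hom_ext_affine _ _ fun U s =>
      OmegaLib.idealSect_injective I₀ U.1 ((hφ U s).trans (phi_spec x p IA _ U s).symm)
    obtain ⟨r, hr⟩ : ∃ r : k, t = algebraMap k B r * t' := by
      obtain ⟨b, hb⟩ := Ideal.mem_span_singleton'.1 (ht'.le (ht.ge (Ideal.mem_span_singleton_self t)))
      exact ⟨B.res b, hb.symm.trans (algebraMap_res_smul hp.isSemismallExt b (ht'.ge (Ideal.mem_span_singleton_self t')))⟩
    have hspec : KSpec x p IA hp.isSemismallExt (r • ℓ₀) κ := KSpec.of_kappa t' _ (fun a => by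
      rw [LinearMap.smul_apply, smul_eq_mul, mul_comm r, map_mul, _root_.mul_assoc, ← hr]
      exact hℓ₀ a) hκ
    have hlext : LocSplit.LocExtends (phi x p IA hp.isSemismallExt) κ := fun q => by
      obtain ⟨U, hqU, n, g, hg, hgen, hrel⟩ := hd _ _ p hp IA q
      exact ⟨U.1, hqU, HilbLocSmooth.exists_theta_local p hp.1 IA t' ht' ht'0 hm _ hP _ hφ κ hκ U g hg hgen hrel⟩
    refine (LocSplit.obsClass_eq_zero_iff k _ κ hlext).1 ?_
    obtain ⟨w, hw⟩ := exists_obs hX hd p hp.isSemismallExt IA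
    rw [← obs1_eq hd p _ IA _ hspec hlext, ← hw]
    have h1 : ct ℓ₀ w = 0 := (hw ℓ₀).trans h0
    simp only [ct, LinearMap.lTensor_smul, LinearMap.comp_apply, LinearMap.smul_apply, map_smul] at h1 ⊢
    rw [h1, smul_zero]
  exact ⟨I, Subtype.ext hI⟩

omit [X.Over (Spec (CommRingCat.of k))] in
/-- Dividing by the generator of the kernel in a flat quotient. -/
theorem rho_mem_of_mem_lift {B : Art k k} (t : B) (ht0 : t ≠ 0) (I : (localHilb X x I₀).obj B) (U : X.affineOpens)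
    (z : Γ(XA x B, (W x B U).1)) (hz : c x B U t * z ∈ I.1.ideal (W x B U)) : rho x B U z ∈ I₀.ideal U := by
  letI : Algebra B (Γ(XA x B, (W x B U).1) ⧸ I.1.ideal (W x B U)) :=
    ((Ideal.Quotient.mk (I.1.ideal (W x B U))).comp (c x B U)).toAlgebra
  haveI : Module.Flat B (Γ(XA x B, (W x B U).1) ⧸ I.1.ideal (W x B U)) := HilbPatch.flatIdeal x B I U
  have h0 : ∑ _j : Fin 1, t • (Ideal.Quotient.mk (I.1.ideal (W x B U)) z) = 0 := by
    rw [Fin.sum_univ_one]
    show Ideal.Quotient.mk (I.1.ideal (W x B U)) (c x B U t) * Ideal.Quotient.mk (I.1.ideal (W x B U)) z = 0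
    rw [← map_mul, Ideal.Quotient.eq_zero_iff_mem]
    exact hz
  obtain ⟨K, b, y, hy, hb⟩ := Module.Flat.isTrivialRelation_of_sum_smul_eq_zero (R := B) h0
  choose y' hy' using fun j => Ideal.Quotient.mk_surjective (I := I.1.ideal (W x B U)) (y j)
  have hbm : ∀ j, b 0 j ∈ IsLocalRing.maximalIdeal B := fun j => by
    by_contra hu
    have h1 := hb j
    rw [Fin.sum_univ_one] at h1
    exact ht0 ((IsLocalRing.notMem_maximalIdeal.1 hu).mul_left_eq_zero.1 h1)
  have h2 : z - ∑ j, c x B U (b 0 j) * y' j ∈ I.1.ideal (W x B U) := by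
    rw [← Ideal.Quotient.eq, map_sum]
    refine (hy 0).trans ?_
    exact Finset.sum_congr rfl fun j _ => by rw [map_mul, hy']; rfl
  have h3 := Ideal.mem_map_of_mem (rho x B U) h2
  rw [HilbPatch.red x B I U, map_sub, map_sum] at h3
  have h4 : ∀ j, rho x B U (c x B U (b 0 j) * y' j) = 0 := fun j => by
    rw [← RingHom.mem_ker, (rho_spec x B U).2]
    exact Ideal.mul_mem_right _ _ (Ideal.mem_map_of_mem _ (hbm j))
  rwa [Finset.sum_eq_zero fun j _ => h4 j, sub_zero] at h3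

include hd in
theorem obs1_eq_zero_of_lift {B A : Art k k} (p : B ⟶ A) (hp : IsSmallExt p) (IA : (localHilb X x I₀).obj A)
    (t : B) (ht : RingHom.ker p.toAlgHom.toRingHom = Ideal.span {t}) (ht0 : t ≠ 0)
    (ℓ₀ : ↥(RingHom.ker p.toAlgHom) →ₗ[k] k) (hℓ₀ : ∀ a, a.1 = algebraMap k B (ℓ₀ a) * t)
    (I : (localHilb X x I₀).obj B) (hI : (localHilb X x I₀).map p I = IA) :
    obs1 hd p hp.isSemismallExt IA ℓ₀ = 0 := by
  obtain ⟨ψ, hψ, hψl⟩ := exists_psi hd p hp.isSemismallExt IA ℓ₀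
  rw [obs1_eq hd p _ IA _ hψ hψl, LocSplit.obsClass_eq_zero_iff]
  subst hI
  set IA := (localHilb X x I₀).map p I
  have hπI : ∀ U, (I.1.ideal (W x B U)).map (pi x p U) = IA.1.ideal (W x A U) := fun U =>
    (comap_map_ideal x p I.1 U).symm
  have hdec : ∀ (U : X.affineOpens) (s : Γ(G (amb x p IA), U.1)),
      ∃ i z, i ∈ I.1.ideal (W x B U) ∧ el (amb x p IA) U s = i + c x B U t * z := fun U s => by
    have h1 := (amb_ideal x p IA U).le (el_mem _ U s)
    rw [Ideal.mem_comap, ← hπI] at h1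
    obtain ⟨i, hi, hie⟩ := (Ideal.mem_map_iff_of_surjective _ (pi_spec x p hp.1 U).1).1 h1
    have h2 : el (amb x p IA) U s - i ∈ RingHom.ker (pi x p U) := by rw [RingHom.mem_ker, map_sub, hie, sub_self]
    rw [(pi_spec x p hp.1 U).2, ht, Ideal.map_span, Set.image_singleton] at h2
    obtain ⟨z, hz⟩ := Ideal.mem_span_singleton'.1 h2
    exact ⟨i, z, hi, by rw [mul_comm (c x B U t), hz, add_sub_cancel]⟩
  choose fi fz hfi hfe using hdec
  have hval : ∀ (U : X.affineOpens) s i z, i ∈ I.1.ideal (W x B U) → el (amb x p IA) U s = i + c x B U t * z →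
      I₀.subschemeι.app U.1 (rho x B U (fz U s)) = I₀.subschemeι.app U.1 (rho x B U z) := fun U s i z hi he => by
    rw [← sub_eq_zero, ← map_sub, ← map_sub, ← RingHom.mem_ker, I₀.ker_subschemeι_app]
    refine rho_mem_of_mem_lift t ht0 I U _ ?_
    rw [show c x B U t * (fz U s - z) = i - fi U s by linear_combination (hfe U s).symm.trans he]
    exact sub_mem hi (hfi U s)
  let θf : ∀ U : X.affineOpens, Γ(G (amb x p IA), U.1) → Γ(ClSub.quotMod I₀, U.1) := fun U s =>
    I₀.subschemeι.app U.1 (rho x B U (fz U s))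
  obtain ⟨θ, hθ⟩ := FamilyHom.exists_hom_of_family
    (fun U => AddMonoidHom.mk' (θf U) fun a b => by
      refine (hval U (a + b) (fi U a + fi U b) (fz U a + fz U b) (add_mem (hfi U a) (hfi U b)) (by
        rw [map_add, hfe U a, hfe U b]; ring)).trans ?_
      rw [map_add]
      exact map_add (I₀.subschemeι.app U.1).hom _ _)
    (fun U V h s => by
      refine Eq.symm ((hval V _ ((XA x B).presheaf.map (homOfLE (W_mono x B h)).op (fi U s))
        ((XA x B).presheaf.map (homOfLE (W_mono x B h)).op (fz U s)) ?_ ?_).trans ?_)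
      · rw [← I.1.map_ideal (U := W x B V) (V := W x B U) (W_mono x B h)]
        exact Ideal.mem_map_of_mem _ (hfi U s)
      · rw [el_map _ U V h, hfe U s, map_add, map_mul]
        exact congrArg (_ + · * _) (c_map x B h t)
      · rw [rho_map x B h]
        exact congr($(I₀.subschemeι.naturality (homOfLE h).op) (rho x B U (fz U s))))
    (fun U r s => by
      show θf U (r • s) = r • θf U s
      refine (hval U (r • s) (fstPull x B U r * fi U s) (fstPull x B U r * fz U s)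
        (Ideal.mul_mem_left _ _ (hfi U s)) (by rw [el_smul, hfe U s]; ring)).trans ?_
      rw [map_mul, rho_fst]
      exact map_mul (I₀.subschemeι.app U.1).hom _ _)
  refine ⟨θ, hom_ext_affine _ _ fun U kk => ?_⟩
  obtain ⟨μ, hμ, n, a, z, he⟩ := exists_decomp x p IA hp.isSemismallExt U kk
  rw [hψ U kk μ n a z hμ he]
  refine (hθ U _).trans (hval U _ μ _ ?_ ?_)
  · refine (Ideal.mul_le.2 fun m hm e he' => ?_ : mP x p IA U ≤ I.1.ideal (W x B U)) hμ
    obtain ⟨s, rfl⟩ := exists_el _ U e he'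
    rw [hfe U s, mul_add, ← mul_assoc]
    refine add_mem (Ideal.mul_mem_left _ _ (hfi U s)) ?_
    have h0 : m * c x B U t = 0 := by
      rw [← Ideal.mem_bot, ← Ideal.map_bot (f := c x B U), ← hp.2.2.2, Ideal.map_mul]
      exact Ideal.mul_mem_mul hm (Ideal.mem_map_of_mem _ (ht.ge (Ideal.mem_span_singleton_self t)))
    rw [h0, zero_mul]
    exact zero_mem _
  · refine he.trans ?_
    rw [Finset.mul_sum]
    refine congrArg (μ + ·) (Finset.sum_congr rfl fun j _ => ?_)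
    conv_lhs => rw [hℓ₀ (a j), map_mul]
    ring

include hX in
theorem obs1_eq_zero_of_exists {B A : Art k k} (p : B ⟶ A) (hp : IsSemismallExt p) (IA : (localHilb X x I₀).obj A)
    (I : (localHilb X x I₀).obj B) (hI : (localHilb X x I₀).map p I = IA)
    (ℓ : ↥(RingHom.ker p.toAlgHom) →ₗ[k] k) : obs1 hd p hp IA ℓ = 0 := by
  by_cases hℓ : ℓ = 0
  · obtain ⟨w, hw⟩ := exists_obs hX hd p hp IA
    rw [← hw ℓ, hℓ]
    simp [ct]
  obtain ⟨B', q, p', hq, hp', qK, hqK, t, ℓ₀, ht, ht0, hℓ₀, rfl⟩ := exists_quot hp ℓ hℓ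
  rw [obs1_pull hd hq hp hp'.isSemismallExt qK hqK IA ℓ₀]
  refine obs1_eq_zero_of_lift hd p' hp' IA t ht ht0 ℓ₀ hℓ₀ ((localHilb X x I₀).map q I) ?_
  subst hq
  rw [← hI, Functor.map_comp]
  rfl

include hX in
theorem exists_lift_of_obs : ∀ (n : ℕ) (B A : Art k k) (p : B ⟶ A) (hp : IsSemismallExt p)
    (IA : (localHilb X x I₀).obj A), Module.finrank k ↥(RingHom.ker p.toAlgHom) ≤ n →
    (∀ ℓ, obs1 hd p hp IA ℓ = 0) → ∃ I, (localHilb X x I₀).map p I = IA := by
  intro n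
  induction n with
  | zero =>
    intro B A p hp IA hn _
    haveI := finite_ker hp
    haveI : Subsingleton ↥(RingHom.ker p.toAlgHom) := Module.finrank_zero_iff.1 (Nat.le_zero.1 hn)
    haveI : IsIso p := ArtFunLib.isIso_of_bijective p ⟨(injective_iff_map_eq_zero p.toAlgHom).2 fun a ha =>
      congrArg Subtype.val (Subsingleton.elim (⟨a, RingHom.mem_ker.2 ha⟩ : ↥(RingHom.ker p.toAlgHom)) 0), hp.1⟩
    exact ((isIso_iff_bijective _).1 (inferInstance : IsIso ((localHilb X x I₀).map p))).2 IA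
  | succ n ih =>
    intro B A p hp IA hn h0
    haveI := finite_ker hp
    by_cases hz : Module.finrank k ↥(RingHom.ker p.toAlgHom) ≤ n
    · exact ih B A p hp IA hz h0
    haveI : Nontrivial ↥(RingHom.ker p.toAlgHom) := Module.nontrivial_of_finrank_pos (R := k) (by omega)
    obtain ⟨ℓ, hℓ⟩ : ∃ ℓ : ↥(RingHom.ker p.toAlgHom) →ₗ[k] k, ℓ ≠ 0 := exists_ne _
    obtain ⟨B', q, p', hq, hp', qK, hqK, t, ℓ₀, ht, ht0, hℓ₀, rfl⟩ := exists_quot hp ℓ hℓ
    obtain ⟨t₀, ht₀⟩ : ∃ a, ℓ₀ (qK a) = 1 := by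
      obtain ⟨a, ha⟩ : ∃ a, ℓ₀ (qK a) ≠ 0 := by
        by_contra h
        push Not at h
        exact hℓ (LinearMap.ext h)
      exact ⟨(ℓ₀ (qK a))⁻¹ • a, by rw [map_smul, map_smul, smul_eq_mul, inv_mul_cancel₀ ha]⟩
    let L := subIdeal hp (Submodule.span k {t₀})
    have hLJ : L ≤ RingHom.ker p.toAlgHom := subIdeal_le hp _
    have hL : L ≤ IsLocalRing.maximalIdeal B := hLJ.trans (ArtFunLib.ker_le_maximalIdeal p)
    let p'' := quotFactor hL p hLJ
    have hp'' : IsSemismallExt p'' := isSemismall_quotFactor hp hL hLJ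
    let qL : ↥(RingHom.ker p.toAlgHom) →ₗ[k] ↥(RingHom.ker p''.toAlgHom) := (kerToQuot hL p hLJ).restrictScalars k
    have hqL : Function.Surjective qL := fun ⟨w, hw⟩ => by
      obtain ⟨b, rfl⟩ := quotMk_surjective B L hL w
      exact ⟨⟨b, (RingHom.mem_ker.1 hw :)⟩, rfl⟩
    have hlt : Module.finrank k ↥(RingHom.ker p''.toAlgHom) ≤ n := by
      haveI := finite_ker hp''
      have h1 := qL.finrank_range_add_finrank_ker
      rw [LinearMap.range_eq_top.2 hqL, finrank_top] at h1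
      have h2 : 0 < Module.finrank k (LinearMap.ker qL) := by
        refine Module.finrank_pos_iff.2 ⟨⟨⟨t₀, ?_⟩, 0, fun h => ?_⟩⟩
        · exact LinearMap.mem_ker.2 (Subtype.ext (Ideal.Quotient.eq_zero_iff_mem.2
            ⟨t₀.2, Submodule.mem_span_singleton_self _⟩))
        · rw [show t₀ = 0 from congrArg Subtype.val h, map_zero, map_zero] at ht₀
          exact zero_ne_one ht₀
      omega
    obtain ⟨I', hI'⟩ := small_exists_of_obs_eq_zero hX hd p' hp' IA t ht ℓ₀ hℓ₀ (by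
      rw [← obs1_pull hd hq hp hp'.isSemismallExt qK hqK IA ℓ₀]
      exact h0 _)
    obtain ⟨I'', hI''⟩ := ih _ A p'' hp'' IA hlt fun ℓ' => by
      rw [← obs1_pull hd (q := quotMk B L hL) (quotMk_quotFactor hL p hLJ) hp hp'' qL (fun _ => rfl) IA ℓ']
      exact h0 _
    have hFP : IsFibreProd q (quotMk B L hL) p' p'' := by
      refine ⟨hq.trans (quotMk_quotFactor hL p hLJ).symm, fun b₁ b₂ e₁ e₂ => ?_, fun a' a'' e => ?_⟩
      · obtain ⟨hJ, hs⟩ : b₁ - b₂ ∈ L := Ideal.Quotient.eq.1 e₂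
        obtain ⟨r, hr⟩ := Submodule.mem_span_singleton.1 hs
        have h1 : qK (r • t₀) = 0 := by
          refine Subtype.ext ((hqK _).trans ?_)
          rw [show (r • t₀ : ↥(RingHom.ker p.toAlgHom)).1 = b₁ - b₂ from congrArg Subtype.val hr, map_sub, e₁, sub_self]
          rfl
        have h2 : r = 0 := by
          have := congrArg ℓ₀ h1
          rwa [map_smul, map_smul, map_zero, ht₀, smul_eq_mul, mul_one] at this
        rw [← sub_eq_zero, ← show (r • t₀ : ↥(RingHom.ker p.toAlgHom)).1 = b₁ - b₂ from congrArg Subtype.val hr, h2,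
          zero_smul]
        rfl
      · obtain ⟨b, rfl⟩ := quotMk_surjective B L hL a''
        have hd' : a' - q b ∈ RingHom.ker p'.toAlgHom := by
          rw [RingHom.mem_ker, map_sub, sub_eq_zero]
          refine e.trans ?_
          show p b = p' (q b)
          rw [← hq]
          rfl
        refine ⟨b + algebraMap k B (ℓ₀ ⟨_, hd'⟩) * t₀.1, ?_, ?_⟩
        · rw [map_add, map_mul, AlgHom.commutes, ← hqK, hℓ₀ (qK t₀), ht₀, map_one, one_mul,
            ← hℓ₀ ⟨_, hd'⟩]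
          exact add_sub_cancel _ _
        · rw [map_add]
          refine (congrArg (_ + ·) ?_).trans (add_zero _)
          refine Ideal.Quotient.eq_zero_iff_mem.2 ⟨Ideal.mul_mem_left _ _ t₀.2, ?_⟩
          convert Submodule.smul_mem (Submodule.span k {t₀}) (ℓ₀ ⟨_, hd'⟩) (Submodule.mem_span_singleton_self t₀) using 1
          exact Subtype.ext (Algebra.smul_def _ _).symm
    obtain ⟨I, hIeq⟩ := (HilbPatch.bijective_cmp x hFP hp''.1).2 ⟨(I', I''), hI'.trans hI''.symm⟩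
    refine ⟨I, ?_⟩
    rw [← hq, Functor.map_comp, ← hI']
    exact congrArg ((localHilb X x I₀).map p') (congrArg (fun z => z.1.1) hIeq)

include hX hd in
/-- The obstruction theory. -/
theorem hasObsTheory : HasObsTheory (localHilb X x I₀) (V I₀) := by
  choose o ho using fun (B A : Art k k) (p : B ⟶ A) hp IA => exists_obs hX hd p hp IA
  exact ⟨{ obs := fun {C' C} p hp u => o C' C p hp u
           obs_eq_zero_iff := fun {C' C} p hp u => by
             haveI := finite_ker hp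
             constructor
             · intro h
               refine exists_lift_of_obs hX hd _ C' C p hp u le_rfl fun ℓ => ?_
               rw [← ho, h, map_zero]
             · rintro ⟨u', hu'⟩
               refine ext_ct fun ℓ => ?_
               rw [ho, map_zero]
               exact obs1_eq_zero_of_exists hX hd p hp u u' hu' ℓ
           obs_quot := fun {C' C} p hp K hK hKJ hq u => by
             haveI := finite_ker hq
             refine ext_ct fun ℓ' => ?_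
             rw [ho, ct_lTensor, ho]
             exact (obs1_pull hd (q := quotMk C' K hK) (quotMk_quotFactor hK p hKJ) hp hq
               ((kerToQuot hK p hKJ).restrictScalars k) (fun _ => rfl) u ℓ').symm }⟩

end Groth.Agent.ArtFunLib.HilbObs
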