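import Groth.Agent.ArtFunLib.HilbTangent

/-! First order embedded deformations from morphisms `I₀ ⟶ O_Y`. -/

set_option autoImplicit false
set_option backward.isDefEq.respectTransparency false
set_option backward.isDefEq.respectTransparency.types false
set_option maxHeartbeats 800000
universe u

open CategoryTheory CategoryTheory.Limits AlgebraicGeometry ArtFun ArtFun.Art Opposite

namespace Groth.Agent.ArtFunLib.HilbTangent

open HilbAffine HilbSit HilbMod HilbPatch HilbIdeal

variable {k : Type u} [Field k] {X : Scheme.{u}} (x : X ⟶ specPt k) {I₀ : X.IdealSheafData}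

theorem ker_rho_base (U : X.affineOpens) : RingHom.ker (rho x (Art.base k k) U) = ⊥ := by
  rw [(rho_spec x (Art.base k k) U).2, show IsLocalRing.maximalIdeal (Art.base k k) = ⊥ from
    eq_bot_iff.2 fun z hz => (mem_maximalIdeal_iff _ z).1 hz, Ideal.map_bot]

theorem comap_map_base (U : X.affineOpens) (J : Ideal Γ(XA x (Art.base k k), (W x (Art.base k k) U).1)) :
    (J.map (rho x (Art.base k k) U)).comap (rho x (Art.base k k) U) = J := by
  rw [Ideal.comap_map_of_surjective _ (rho_spec x (Art.base k k) U).1, ← RingHom.ker_eq_comap_bot, ker_rho_base x U,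
    sup_bot_eq]

/-- The image of a function in `O_Y`. -/
noncomputable def qv (I₀ : X.IdealSheafData) (U : X.Opens) : Γ(X, U) →+ Γ(ClSub.quotMod I₀, U) :=
  AddMonoidHom.mk' (fun r => I₀.subschemeι.app U r) fun a b => map_add (I₀.subschemeι.app U).hom a b

theorem qv_mul (U : X.Opens) (r z : Γ(X, U)) : qv I₀ U (r * z) = r • qv I₀ U z :=
  map_mul (I₀.subschemeι.app U).hom r z

theorem qv_map {U V : X.Opens} (h : V ≤ U) (r : Γ(X, U)) :
    (ClSub.quotMod I₀).presheaf.map (homOfLE h).op (qv I₀ U r) = qv I₀ V (X.presheaf.map (homOfLE h).op r) :=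
  (congr($(I₀.subschemeι.naturality (homOfLE h).op) r)).symm

theorem qv_eq_zero_iff (U : X.affineOpens) (r : Γ(X, U.1)) : qv I₀ U.1 r = 0 ↔ r ∈ I₀.ideal U := by
  rw [← I₀.ker_subschemeι_app, RingHom.mem_ker]
  rfl

theorem exists_of_hom (φ : ClSub.idealMod I₀ ⟶ ClSub.quotMod I₀) :
    ∃ I : (localHilb X x I₀).obj (dual k k), IsVal x I φ := by
  obtain ⟨P, hP⟩ : ∃ P : (XA x (dual k k)).IdealSheafData,
      ∀ U, P.ideal (W x (dual k k) U) = (I₀.ideal U).comap (rho x (dual k k) U) :=
    ⟨I₀.map (XAincl x (dual k k)), fun U => by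
      haveI := isAffineHom_incl x (dual k k)
      exact Ideal.ext fun a => mem_map_iff (XAincl x (dual k k)) I₀ (W x (dual k k) U) U
        (rho_le x (dual k k) U) (rho_le x (dual k k) U).le a⟩
  -- the decomposition
  have hex : ∀ (U : X.affineOpens) (e : Γ(G P, U.1)), ∃ (s : Γ(ClSub.idealMod I₀, U.1))
      (z : Γ(XA x (dual k k), (W x (dual k k) U).1)),
      el P U e = fstPull x (dual k k) U (OmegaSh.idealSect I₀ U.1 s) + c x (dual k k) U eps * z := fun U e => by
    have h := el_mem P U e
    rw [hP, Ideal.mem_comap] at h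
    obtain ⟨s, hs⟩ := OmegaLib.exists_of_mem I₀ U _ h
    obtain ⟨z, hz⟩ := exists_z x U (el P U e)
    rw [← hs] at hz
    exact ⟨s, z, hz⟩
  choose fs fz hf using hex
  let f : ∀ U : X.affineOpens, Γ(G P, U.1) → Γ(ClSub.quotMod I₀, U.1) := fun U e =>
    φ.app U.1 (fs U e) - qv I₀ U.1 (rho x (dual k k) U (fz U e))
  have hval : ∀ (U : X.affineOpens) e s z,
      el P U e = fstPull x (dual k k) U (OmegaSh.idealSect I₀ U.1 s) + c x (dual k k) U eps * z →
      f U e = φ.app U.1 s - qv I₀ U.1 (rho x (dual k k) U z) := fun U e s z he => by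
    have e2 := (hf U e).symm.trans he
    have hr := congrArg (rho x (dual k k) U) e2
    have h0 : rho x (dual k k) U (c x (dual k k) U eps) = 0 :=
      RingHom.mem_ker.1 ((ker_rho_dual x U).ge (Ideal.mem_span_singleton_self _))
    rw [map_add, map_add, rho_fst, rho_fst, map_mul, map_mul, h0, zero_mul, zero_mul, add_zero, add_zero] at hr
    have hs : fs U e = s := OmegaLib.idealSect_injective I₀ U.1 hr
    rw [hs, add_right_inj] at e2
    have h3 : c x (dual k k) U eps * (fz U e - z) ∈ (⊥ : Ideal _) := by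
      rw [mul_sub, e2, sub_self]; exact zero_mem _
    have hflat : ((Ideal.Quotient.mk (⊥ : Ideal Γ(XA x (dual k k), (W x (dual k k) U).1))).comp (c x (dual k k) U)).Flat :=
      (flat_c x (dual k k) U).comp (RingHom.Flat.of_bijective
        ⟨by rw [RingHom.injective_iff_ker_eq_bot, Ideal.mk_ker], Ideal.Quotient.mk_surjective⟩)
    have h4 := HilbRing.rho_mem (c x (dual k k) U) (rho x (dual k k) U) (IsLocalRing.maximalIdeal (dual k k)) eps
      (rho_spec x (dual k k) U).2 mem_max_of_eps_mul hflat _ h3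
    rw [Ideal.map_bot, Ideal.mem_bot, map_sub, sub_eq_zero] at h4
    show φ.app U.1 (fs U e) - qv I₀ U.1 (rho x (dual k k) U (fz U e)) = _
    rw [hs, h4]
  have hadd : ∀ U a b, f U (a + b) = f U a + f U b := fun U a b => by
    rw [hval U (a + b) (fs U a + fs U b) (fz U a + fz U b) (by
      rw [map_add, map_add, map_add, hf U a, hf U b, mul_add]; ring)]
    rw [map_add, map_add, map_add]
    exact add_sub_add_comm _ _ _ _
  obtain ⟨θ, hθ⟩ := FamilyHom.exists_hom_of_family (fun U => AddMonoidHom.mk' (f U) (hadd U))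
    (fun U V hV e => by
      show (ClSub.quotMod I₀).presheaf.map (homOfLE hV).op (f U e) = f V ((G P).presheaf.map (homOfLE hV).op e)
      rw [hval V _ ((ClSub.idealMod I₀).presheaf.map (homOfLE hV).op (fs U e))
        ((XA x (dual k k)).presheaf.map (homOfLE (W_mono x (dual k k) hV)).op (fz U e))
        (by rw [el_map P U V hV, hf U e, map_add, map_mul, c_map x (dual k k) hV, fstPull_map x (dual k k) hV,
          OmegaLib.idealSect_map I₀ hV]), app_map, rho_map x (dual k k) hV]
      show (ClSub.quotMod I₀).presheaf.map (homOfLE hV).op (φ.app U.1 (fs U e) - qv I₀ U.1 _) = _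
      rw [map_sub, qv_map hV])
    (fun U r e => by
      show f U (r • e) = r • f U e
      rw [hval U (r • e) (r • fs U e) (fstPull x (dual k k) U r * fz U e) (by
        rw [el_smul, hf U e, OmegaLib.idealSect_smul, map_mul]; ring), Scheme.Modules.Hom.app_smul, map_mul, rho_fst,
        qv_mul]
      exact (smul_sub r (φ.app U.1 (fs U e)) (qv I₀ U.1 (rho x (dual k k) U (fz U e)))).symm)
  have hθv : ∀ (U : X.affineOpens) e s z,
      el P U e = fstPull x (dual k k) U (OmegaSh.idealSect I₀ U.1 s) + c x (dual k k) U eps * z →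
      θ.app U.1 e = φ.app U.1 s - qv I₀ U.1 (rho x (dual k k) U z) :=
    fun U e s z he => (hθ U e).trans (hval U e s z he)
  have hlin : ∀ (U : X.affineOpens) e (R : Γ(XA x (dual k k), (W x (dual k k) U).1)) e', el P U e' = R * el P U e →
      θ.app U.1 e' = rho x (dual k k) U R • θ.app U.1 e := fun U e R e' he => by
    obtain ⟨w, hw⟩ := exists_z x U R
    rw [hθv U e' (rho x (dual k k) U R • fs U e)
      (w * fstPull x (dual k k) U (OmegaSh.idealSect I₀ U.1 (fs U e)) + R * fz U e)
      (by
        rw [he, hf U e, OmegaLib.idealSect_smul, map_mul]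
        conv_lhs => rw [mul_add]; arg 1; rw [hw]
        ring), hθv U e _ _ (hf U e), Scheme.Modules.Hom.app_smul, map_add, map_mul, map_mul, rho_fst, smul_sub]
    rw [map_add, qv_mul, qv_mul, (qv_eq_zero_iff U _).2 (OmegaLib.idealSect_mem I₀ U _), smul_zero, zero_add]
  obtain ⟨I, hI⟩ := exists_ideal P I₀ θ hlin
  have hmk : ∀ (U : X.affineOpens) s z,
      φ.app U.1 s = qv I₀ U.1 (rho x (dual k k) U z) →
      fstPull x (dual k k) U (OmegaSh.idealSect I₀ U.1 s) + c x (dual k k) U eps * z ∈ I.ideal (W x (dual k k) U) := fun U s z h => by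
    obtain ⟨e, he⟩ := exists_el P U (fstPull x (dual k k) U (OmegaSh.idealSect I₀ U.1 s) + c x (dual k k) U eps * z) (by
      rw [hP, Ideal.mem_comap, map_add, rho_fst, map_mul,
        RingHom.mem_ker.1 ((ker_rho_dual x U).ge (Ideal.mem_span_singleton_self _)), zero_mul, add_zero]
      exact OmegaLib.idealSect_mem I₀ U s)
    exact (hI U _).2 ⟨e, he, by rw [hθv U e s z he, h, sub_self]⟩
  have hmap : ∀ U, (I.ideal (W x (dual k k) U)).map (rho x (dual k k) U) = I₀.ideal U := fun U => by
    refine le_antisymm (Ideal.map_le_iff_le_comap.2 fun a ha => ?_) fun b hb => ?_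
    · obtain ⟨e, rfl, -⟩ := (hI U a).1 ha
      exact hP U ▸ el_mem P U e
    · obtain ⟨s, rfl⟩ := OmegaLib.exists_of_mem I₀ U b hb
      obtain ⟨w, hw⟩ := I₀.subschemeι_app_surjective U (φ.app U.1 s)
      obtain ⟨z, rfl⟩ := (rho_spec x (dual k k) U).1 w
      have h := Ideal.mem_map_of_mem (rho x (dual k k) U) (hmk U s z hw.symm)
      rwa [map_add, rho_fst, map_mul, RingHom.mem_ker.1 ((ker_rho_dual x U).ge (Ideal.mem_span_singleton_self _)),
        zero_mul, add_zero] at h
  obtain ⟨J₀⟩ := (h0 x (I₀ := I₀)).1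
  have hkt : RingHom.ker (toBase (dual k k)).toAlgHom.toRingHom = Ideal.span {(eps : dual k k)} := by
    rw [← map_max]
    exact IsLocalRing.eq_maximalIdeal (RingHom.ker_isMaximal_of_surjective _ (dual k k).res_surjective)
  have ht0 : (eps : dual k k) ≠ 0 := fun h0' => one_ne_zero (α := k)
    (congrArg (fun z : DualNumber k => TrivSqZeroExt.snd z) h0')
  have hm0 : IsLocalRing.maximalIdeal (dual k k) * Ideal.span {(eps : dual k k)} = ⊥ := by
    refine eq_bot_iff.2 (Ideal.mul_le.2 fun a ha b hb => ?_)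
    obtain ⟨d, rfl⟩ := Ideal.mem_span_singleton'.1 hb
    rw [Ideal.mem_bot, mul_left_comm, eps_mul_eq_zero a ha, mul_zero]
  refine ⟨⟨I, flat_of_ideals I fun U => ?_, Scheme.IdealSheafData.ext (funext fun U => ?_)⟩, fun U s z hz => ?_⟩
  · refine HilbObsRing.flat_of_lift (sit x (toBase (dual k k)) (dual k k).res_surjective eps hkt ht0 hm0 U)
      (flatIdeal x _ J₀ U) (rho_spec x (dual k k) U).1 _ ?_ fun z hz => ?_
    · show (I.ideal (W x (dual k k) U)).map (pi x (toBase (dual k k)) U) = J₀.1.ideal (W x (Art.base k k) U)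
      rw [← comap_map_base x U (J₀.1.ideal (W x (Art.base k k) U)), red x (Art.base k k) J₀ U, ← hmap U,
        show rho x (dual k k) U = (rho x (Art.base k k) U).comp (pi x (toBase (dual k k)) U) from
          RingHom.ext fun a => (rho_pi x (toBase (dual k k)) U a).symm, ← Ideal.map_map, comap_map_base]
    · show rho x (dual k k) U z ∈ (J₀.1.ideal (W x (Art.base k k) U)).map (rho x (Art.base k k) U)
      rw [red x (Art.base k k) J₀ U, ← qv_eq_zero_iff]
      obtain ⟨e, he, he0⟩ := (hI U _).1 hz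
      rw [hθv U e 0 z (he.trans (by rw [map_zero, map_zero, zero_add]; rfl)), map_zero, zero_sub, neg_eq_zero] at he0
      exact he0
  · rw [comap_incl_ideal, hmap]
  · obtain ⟨e, he, he0⟩ := (hI U _).1 hz
    rw [hθv U e s z he] at he0
    exact sub_eq_zero.1 he0

theorem exists_linearEquiv [X.Over (Spec (CommRingCat.of k))] (hX : (X ↘ Spec (CommRingCat.of k)) = x)
    [TangentStr (localHilb X x I₀)] :
    Nonempty (TangentSpace (localHilb X x I₀) ≃ₗ[k] (ClSub.idealMod I₀ ⟶ ClSub.quotMod I₀)) := by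
  choose f hf using exists_val x (I₀ := I₀)
  have h0' := h0 x (I₀ := I₀)
  let Ψ : TangentSpace (localHilb X x I₀) →ₗ[k] (ClSub.idealMod I₀ ⟶ ClSub.quotMod I₀) :=
    { toFun := fun t => f t.val
      map_add' := fun t t' => by
        obtain ⟨z, hz₁, hz₂⟩ := exists_pair h0' (conditions x).2.1 t.val t'.val
        have e : t + t' = TangentSpace.mk ((localHilb X x I₀).map plus z) := by
          rw [← tangent_add_eq, hz₁, hz₂]
          rfl
        rw [e]
        exact isVal_unique x (hf _) (isVal_add x z (by rw [hz₁]; exact hf _) (by rw [hz₂]; exact hf _))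
      map_smul' := fun c₀ t => by
        rw [show c₀ • t = TangentSpace.mk ((localHilb X x I₀).map (scale c₀) t.val) from tangent_smul_eq c₀ t.val]
        exact isVal_unique x (hf _) (isVal_smul x hX c₀ (hf _)) }
  refine ⟨LinearEquiv.ofBijective Ψ ⟨fun t t' h => isVal_inj x (hf t.val)
    (by have h' : f t.val = f t'.val := h; rw [h']; exact hf t'.val), fun φ => ?_⟩⟩
  obtain ⟨I, hI⟩ := exists_of_hom x φ
  exact ⟨TangentSpace.mk I, isVal_unique x (hf _) hI⟩

end Groth.Agent.ArtFunLib.HilbTangent
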