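import Groth.Agent.ArtFunLib.Tangent
import Groth.Agent.ArtFunLib.Basic
import Groth.Agent.ArtFunLib.HilbObs

/-! Fibres of semismall extensions of a functor satisfying Schlessinger's conditions. -/

set_option autoImplicit false
set_option backward.isDefEq.respectTransparency false
set_option backward.isDefEq.respectTransparency.types false
set_option linter.style.haveILetI false
universe u v

open CategoryTheory ArtFun ArtFun.Art

noncomputable section

namespace Groth.Agent.ArtFunLib.FibreTorsor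

variable {k : Type u} [Field k] {F : Art k k ⥤ Type v}

/-- Bijectivity of comparison maps over surjections. -/
def GluesOverSurj (F : Art k k ⥤ Type v) : Prop :=
  ∀ {A A' A'' B : Art k k} {p' : B ⟶ A'} {p'' : B ⟶ A''} {f' : A' ⟶ A} {f'' : A'' ⟶ A}
    (hB : IsFibreProd p' p'' f' f''), Function.Surjective f'' → Function.Bijective (cmp F hB)

theorem surjective_toBase (A : Art k k) : Function.Surjective (toBase A) :=
  fun c => A.res_surjective c

/-- `k ⊕ k^n`. -/
abbrev T (n : ℕ) : Art k k := tsze (Λ := k) (k := k) (Fin n → k)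

theorem exists_tangent_equiv (h0 : H0 F) (hF : GluesOverSurj F) :
    ∀ n : ℕ, Nonempty (F.obj (T n) ≃ (Fin n → F.obj (dual k k))) := by
  intro n
  induction n with
  | zero =>
    have hb : Function.Bijective (toBase (T 0 : Art k k)) := by
      refine ⟨fun a b e => ?_, surjective_toBase _⟩
      exact TrivSqZeroExt.ext e (funext fun i => i.elim0)
    haveI : IsIso (toBase (T 0 : Art k k)) := isIso_of_bijective _ hb
    have hbij := (isIso_iff_bijective _).1 (inferInstance : IsIso (F.map (toBase (T 0 : Art k k))))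
    haveI : Subsingleton (F.obj (T 0)) := ⟨fun a b => hbij.1 (@Subsingleton.elim _ h0.2 _ _)⟩
    obtain ⟨⟨z⟩, -⟩ := h0
    obtain ⟨a, -⟩ := hbij.2 z
    exact ⟨⟨fun _ i => i.elim0, fun _ => a, fun _ => Subsingleton.elim _ _, fun g => funext fun i => i.elim0⟩⟩
  | succ n ih =>
    obtain ⟨e⟩ := ih
    let h : T (n + 1) ⟶ dual k k :=
      ⟨tszeMap (LinearMap.proj (R := k) (φ := fun _ : Fin (n + 1) => k) 0), AlgHom.ext fun _ => rfl⟩
    let t : T (n + 1) ⟶ T n :=
      ⟨tszeMap (LinearMap.funLeft k k Fin.succ), AlgHom.ext fun _ => rfl⟩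
    have hFP : IsFibreProd h t (toBase (dual k k)) (toBase (T n)) := by
      refine ⟨by rw [eq_toBase (_ ≫ toBase (dual k k)), eq_toBase (_ ≫ toBase (T n))], fun b₁ b₂ e₁ e₂ => ?_,
        fun a a' e' => ?_⟩
      · refine TrivSqZeroExt.ext (by have := congrArg TrivSqZeroExt.fst e₁; exact this) (funext fun i => ?_)
        refine Fin.cases ?_ (fun j => ?_) i
        · have := congrArg TrivSqZeroExt.snd e₁; exact this
        · have := congrArg TrivSqZeroExt.snd e₂; exact congrFun this j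
      · exact ⟨(a.fst, Fin.cons a.snd a'.snd), TrivSqZeroExt.ext rfl rfl, TrivSqZeroExt.ext e' rfl⟩
    let c := Equiv.ofBijective _ (hF hFP (surjective_toBase _))
    let π : FibProd F (toBase (dual k k)) (toBase (T n)) ≃ F.obj (dual k k) × F.obj (T n) :=
      Equiv.subtypeUnivEquiv fun z => @Subsingleton.elim _ h0.2 _ _
    exact ⟨c.trans (π.trans ((Equiv.prodCongr (Equiv.refl _) e).trans (Fin.consEquiv fun _ => F.obj (dual k k))))⟩

theorem nonempty_fibre_equiv (h0 : H0 F) (hF : GluesOverSurj F) {C' C : Art k k} (p : C' ⟶ C)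
    (hp : IsSemismallExt p) (u : F.obj C) (u₀ : F.obj C') (hu₀ : F.map p u₀ = u) :
    Nonempty ({u' : F.obj C' // F.map p u' = u} ≃
      (Fin (Module.finrank k ↥(RingHom.ker p.toAlgHom)) → F.obj (dual k k))) := by
  haveI := HilbObs.finite_ker hp
  let b := Module.finBasis k ↥(RingHom.ker p.toAlgHom)
  obtain ⟨e⟩ := exists_tangent_equiv h0 hF (Module.finrank k ↥(RingHom.ker p.toAlgHom))
  let hsec : ∀ c : k, ∃ x : fibSub p p, C'.res x.1.1 = c := fun c =>
    ⟨⟨(algebraMap k C' c, algebraMap k C' c), rfl⟩, AlgHom.commutes _ c⟩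
  let P := fib p p hsec
  have hFP := isFibreProd_fib p p hsec
  let d : P → ↥(RingHom.ker p.toAlgHom) := fun z => ⟨(z : fibSub p p).1.2 - (z : fibSub p p).1.1, by
    rw [RingHom.mem_ker, map_sub, sub_eq_zero]; exact (z : fibSub p p).2.symm⟩
  let f : P →ₐ[k] TrivSqZeroExt k (Fin (Module.finrank k ↥(RingHom.ker p.toAlgHom)) → k) :=
    { toFun := fun z => (C'.res (z : fibSub p p).1.1, b.equivFun (d z))
      map_one' := TrivSqZeroExt.ext (map_one C'.res) (by
        show b.equivFun (d 1) = 0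
        rw [show d 1 = 0 from Subtype.ext (sub_self _), map_zero])
      map_mul' := fun z w => TrivSqZeroExt.ext (map_mul C'.res _ _) (by
        show b.equivFun (d (z * w)) = C'.res (z : fibSub p p).1.1 • b.equivFun (d w) +
          MulOpposite.op (C'.res (w : fibSub p p).1.1) • b.equivFun (d z)
        rw [op_smul_eq_smul, ← map_smul, ← map_smul, ← map_add]
        refine congrArg _ (Subtype.ext ?_)
        obtain ⟨⟨z₁, z₂⟩, hz⟩ := (z : fibSub p p)
        obtain ⟨⟨w₁, w₂⟩, hw⟩ := (w : fibSub p p)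
        show z₂ * w₂ - z₁ * w₁ = C'.res z₁ • (w₂ - w₁) + C'.res w₁ • (z₂ - z₁)
        have hz' : z₂ - z₁ ∈ RingHom.ker p.toAlgHom := by rw [RingHom.mem_ker, map_sub, sub_eq_zero]; exact hz.symm
        have hw' : w₂ - w₁ ∈ RingHom.ker p.toAlgHom := by rw [RingHom.mem_ker, map_sub, sub_eq_zero]; exact hw.symm
        have h2 : (z₂ - z₁) * (w₂ - w₁) = 0 := by
          rw [← Ideal.mem_bot, ← hp.2]
          exact Ideal.mul_mem_mul (ArtFunLib.ker_le_maximalIdeal p hz') hw'
        rw [Algebra.smul_def, Algebra.smul_def, ← HilbObs.algebraMap_res_smul hp z₁ hw',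
          ← HilbObs.algebraMap_res_smul hp w₁ hz']
        linear_combination h2)
      map_zero' := TrivSqZeroExt.ext (map_zero C'.res) (by
        show b.equivFun (d 0) = 0
        rw [show d 0 = 0 from Subtype.ext (sub_self _), map_zero])
      map_add' := fun z w => TrivSqZeroExt.ext (map_add C'.res _ _) (by
        show b.equivFun (d (z + w)) = b.equivFun (d z) + b.equivFun (d w)
        rw [← map_add]
        exact congrArg _ (Subtype.ext (add_sub_add_comm _ _ _ _)))
      commutes' := fun c => TrivSqZeroExt.ext (C'.res.commutes c) (by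
        show b.equivFun (d (algebraMap k P c)) = 0
        rw [show d (algebraMap k P c) = 0 from Subtype.ext (sub_self _), map_zero]) }
  let g : P ⟶ T (Module.finrank k ↥(RingHom.ker p.toAlgHom)) := ⟨f, AlgHom.ext fun _ => rfl⟩
  have hFP' : IsFibreProd (fibFst p p hsec) g (toBase C') (toBase (T _)) := by
    refine ⟨by rw [eq_toBase (_ ≫ toBase C'), eq_toBase (g ≫ toBase _)], fun z w e₁ e₂ => ?_, fun a v ha => ?_⟩
    · have h2 : d z = d w := b.equivFun.injective (congrArg TrivSqZeroExt.snd e₂)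
      have h3 : (z : fibSub p p).1.2 - (z : fibSub p p).1.1 = (w : fibSub p p).1.2 - (w : fibSub p p).1.1 :=
        congrArg Subtype.val h2
      rw [show (z : fibSub p p).1.1 = (w : fibSub p p).1.1 from e₁, sub_left_inj] at h3
      exact Subtype.ext (Prod.ext e₁ h3)
    · let j := b.equivFun.symm v.snd
      refine ⟨(⟨(a, a + j.1), ?_⟩ : fibSub p p), rfl, TrivSqZeroExt.ext ha ?_⟩
      · show p a = p (a + j.1)
        rw [map_add, RingHom.mem_ker.1 j.2, add_zero]
      · show b.equivFun (d _) = _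
        rw [show d _ = j from Subtype.ext (add_sub_cancel_left a j.1)]
        exact b.equivFun.apply_symm_apply _
  let c₁ := Equiv.ofBijective _ (hF hFP hp.1)
  let c₂ := Equiv.ofBijective _ (hF hFP' (surjective_toBase _))
  have hc₁ : ∀ w, F.map (fibFst p p hsec) (c₁.symm w) = w.1.1 ∧ F.map (fibSnd p p hsec) (c₁.symm w) = w.1.2 :=
    fun w => ⟨congrArg (fun z => z.1.1) (c₁.apply_symm_apply w), congrArg (fun z => z.1.2) (c₁.apply_symm_apply w)⟩
  have hc₂ : ∀ w, F.map (fibFst p p hsec) (c₂.symm w) = w.1.1 ∧ F.map g (c₂.symm w) = w.1.2 :=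
    fun w => ⟨congrArg (fun z => z.1.1) (c₂.apply_symm_apply w), congrArg (fun z => z.1.2) (c₂.apply_symm_apply w)⟩
  have hmem : ∀ v, F.map p (F.map (fibSnd p p hsec) (c₂.symm ⟨(u₀, v), @Subsingleton.elim _ h0.2 _ _⟩)) = u := by
    intro v
    rw [← types_comp_apply (F.map _) (F.map p), ← F.map_comp, ← hFP.w, F.map_comp, types_comp_apply, (hc₂ _).1]
    exact hu₀
  have hw : ∀ u' : {u' : F.obj C' // F.map p u' = u}, F.map p u₀ = F.map p u'.1 := fun u' => hu₀.trans u'.2.symm
  have hl : ∀ u' : {u' : F.obj C' // F.map p u' = u},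
      F.map (fibSnd p p hsec) (c₂.symm ⟨(u₀, F.map g (c₁.symm ⟨(u₀, u'.1), hw u'⟩)),
        @Subsingleton.elim _ h0.2 _ _⟩) = u'.1 := by
    intro u'
    rw [show c₂.symm _ = c₁.symm ⟨(u₀, u'.1), hw u'⟩ from cmp_ext (hF hFP' (surjective_toBase _)).1
      ((hc₂ _).1.trans (hc₁ ⟨(u₀, u'.1), hw u'⟩).1.symm) (hc₂ _).2]
    exact (hc₁ _).2
  have hr : ∀ v, F.map g (c₁.symm ⟨(u₀, F.map (fibSnd p p hsec) (c₂.symm ⟨(u₀, v), @Subsingleton.elim _ h0.2 _ _⟩)),
      hu₀.trans (hmem v).symm⟩) = v := by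
    intro v
    rw [show c₁.symm _ = c₂.symm ⟨(u₀, v), @Subsingleton.elim _ h0.2 _ _⟩ from cmp_ext (hF hFP hp.1).1
      ((hc₁ _).1.trans (hc₂ ⟨(u₀, v), @Subsingleton.elim _ h0.2 _ _⟩).1.symm) (hc₁ _).2]
    exact (hc₂ _).2
  exact ⟨(Equiv.mk (fun u' => F.map g (c₁.symm ⟨(u₀, u'.1), hw u'⟩))
    (fun v => ⟨F.map (fibSnd p p hsec) (c₂.symm ⟨(u₀, v), @Subsingleton.elim _ h0.2 _ _⟩), hmem v⟩)
    (fun u' => Subtype.ext (hl u')) hr).trans e⟩

end Groth.Agent.ArtFunLib.FibreTorsor
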