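import Groth.Agent.ArtFunLib.HilbPatch
import Groth.Agent.ArtFunLib.HilbMod
import Groth.Agent.ArtFunLib.Tangent
import Groth.Prelude.Def_KLin

/-! The tangent space of the local Hilbert functor and morphisms `I₀ ⟶ O_Y`. -/

set_option autoImplicit false
set_option backward.isDefEq.respectTransparency false
set_option backward.isDefEq.respectTransparency.types false
set_option maxHeartbeats 800000
universe u

open CategoryTheory CategoryTheory.Limits AlgebraicGeometry ArtFun ArtFun.Art Opposite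

namespace Groth.Agent.ArtFunLib.HilbTangent

open HilbAffine HilbSit HilbMod HilbPatch

variable {k : Type u} [Field k] {X : Scheme.{u}} (x : X ⟶ specPt k) {I₀ : X.IdealSheafData}

theorem pi_fstPull {B A : Art k k} (p : B ⟶ A) (U : X.affineOpens) (r : Γ(X, U.1)) :
    pi x p U (fstPull x B U r) = fstPull x A U r := by
  show (XAmap x p).appLE (W x B U).1 (W x A U).1 (pi_le x p U).le ((pullback.fst x (specOver B)).app U.1 r) =
    (pullback.fst x (specOver A)).app U.1 r
  rw [Scheme.Hom.app_eq_appLE, Scheme.Hom.app_eq_appLE]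
  exact (congr($(Scheme.Hom.appLE_comp_appLE (XAmap x p) (pullback.fst x (specOver B)) U.1
    ((pullback.fst x (specOver B)) ⁻¹ᵁ U.1) (W x A U).1 le_rfl (pi_le x p U).le) r)).trans
    congr($(appLE_congr (XAmap_fst x p) _ _ _ _) r)

theorem fstPull_map (B : Art k k) {U V : X.affineOpens} (h : V.1 ≤ U.1) (r : Γ(X, U.1)) :
    (XA x B).presheaf.map (homOfLE (W_mono x B h)).op (fstPull x B U r) =
      fstPull x B V (X.presheaf.map (homOfLE h).op r) :=
  (congr($((pullback.fst x (specOver B)).naturality (homOfLE h).op) r)).symm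

/-- `ε`. -/
noncomputable def eps : dual k k := (TrivSqZeroExt.inr 1 : DualNumber k)

/-- A constant of `k[ε]`. -/
noncomputable def inlD (a : k) : dual k k := (TrivSqZeroExt.inl a : DualNumber k)

theorem eq_smul_eps (a : dual k k) (h : (dual k k).res a = 0) :
    a = inlD (TrivSqZeroExt.snd (show DualNumber k from a)) * eps := by
  have h' : TrivSqZeroExt.fst (show DualNumber k from a) = 0 := h
  show (show DualNumber k from a) =
    (TrivSqZeroExt.inl (TrivSqZeroExt.snd (show DualNumber k from a)) : DualNumber k) * TrivSqZeroExt.inr 1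
  refine TrivSqZeroExt.ext ?_ ?_
  · exact h'.trans (by simp)
  · simp

theorem eps_mul_eq_zero (a : dual k k) (ha : a ∈ IsLocalRing.maximalIdeal (dual k k)) : a * eps = 0 := by
  rw [eq_smul_eps a ((mem_maximalIdeal_iff _ a).1 ha), _root_.mul_assoc]
  have : (eps : dual k k) * eps = 0 := TrivSqZeroExt.inr_mul_inr k 1 1
  rw [this, mul_zero]

theorem mem_max_of_eps_mul (a : dual k k) (ha : eps * a = 0) : a ∈ IsLocalRing.maximalIdeal (dual k k) := by
  refine (mem_maximalIdeal_iff _ a).2 ?_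
  let a' : DualNumber k := a
  have h : (TrivSqZeroExt.inr 1 : DualNumber k) * a' = 0 := ha
  have h2 := congrArg TrivSqZeroExt.snd h
  show TrivSqZeroExt.fst a' = 0
  rw [TrivSqZeroExt.snd_mul] at h2
  simpa using h2

theorem map_max : (IsLocalRing.maximalIdeal (dual k k)) = Ideal.span {(eps : dual k k)} := by
  refine le_antisymm (fun a ha => ?_) (Ideal.span_le.2 (Set.singleton_subset_iff.2 ?_))
  · exact Ideal.mem_span_singleton'.2 ⟨_, (eq_smul_eps a ((mem_maximalIdeal_iff _ a).1 ha)).symm⟩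
  · exact (mem_maximalIdeal_iff _ _).2 (TrivSqZeroExt.fst_inr k 1)

theorem ker_rho_dual (U : X.affineOpens) :
    RingHom.ker (rho x (dual k k) U) = Ideal.span {c x (dual k k) U eps} := by
  rw [(rho_spec x (dual k k) U).2, map_max, Ideal.map_span, Set.image_singleton]

theorem exists_z (U : X.affineOpens) (a : Γ(XA x (dual k k), (W x (dual k k) U).1)) :
    ∃ z, a = fstPull x (dual k k) U (rho x (dual k k) U a) + c x (dual k k) U eps * z := by
  have h : a - fstPull x (dual k k) U (rho x (dual k k) U a) ∈ RingHom.ker (rho x (dual k k) U) := by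
    rw [RingHom.mem_ker, map_sub, rho_fst, sub_self]
  rw [ker_rho_dual, Ideal.mem_span_singleton'] at h
  obtain ⟨z, hz⟩ := h
  exact ⟨z, eq_add_of_sub_eq' (hz.symm.trans (mul_comm _ _))⟩

/-- `φ` records the first-order part of `I`. -/
def IsVal (I : (localHilb X x I₀).obj (dual k k)) (φ : ClSub.idealMod I₀ ⟶ ClSub.quotMod I₀) : Prop :=
  ∀ (U : X.affineOpens) (s : Γ(ClSub.idealMod I₀, U.1)) (z : Γ(XA x (dual k k), (W x (dual k k) U).1)),
    fstPull x (dual k k) U (OmegaSh.idealSect I₀ U.1 s) + c x (dual k k) U eps * z ∈ I.1.ideal (W x (dual k k) U) →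
      φ.app U.1 s = I₀.subschemeι.app U.1 (rho x (dual k k) U z)

theorem exists_mem (I : (localHilb X x I₀).obj (dual k k)) (U : X.affineOpens) (s : Γ(ClSub.idealMod I₀, U.1)) :
    ∃ z, fstPull x (dual k k) U (OmegaSh.idealSect I₀ U.1 s) + c x (dual k k) U eps * z ∈
      I.1.ideal (W x (dual k k) U) := by
  obtain ⟨a, ha, hρ⟩ := (Ideal.mem_map_iff_of_surjective _ (rho_spec x (dual k k) U).1).1
    ((red x (dual k k) I U).symm ▸ OmegaLib.idealSect_mem I₀ U s)
  obtain ⟨z, hz⟩ := exists_z x U a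
  rw [hρ] at hz
  exact ⟨z, hz ▸ ha⟩

theorem val_unique (I : (localHilb X x I₀).obj (dual k k)) (U : X.affineOpens) (s : Γ(X, U.1))
    {z z' : Γ(XA x (dual k k), (W x (dual k k) U).1)}
    (h : fstPull x (dual k k) U s + c x (dual k k) U eps * z ∈ I.1.ideal (W x (dual k k) U))
    (h' : fstPull x (dual k k) U s + c x (dual k k) U eps * z' ∈ I.1.ideal (W x (dual k k) U)) :
    I₀.subschemeι.app U.1 (rho x (dual k k) U z) = I₀.subschemeι.app U.1 (rho x (dual k k) U z') := by
  have h2 : c x (dual k k) U eps * (z - z') ∈ I.1.ideal (W x (dual k k) U) := by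
    have := sub_mem h h'
    rwa [add_sub_add_left_eq_sub, ← mul_sub] at this
  have h3 := HilbRing.rho_mem (c x (dual k k) U) (rho x (dual k k) U) (IsLocalRing.maximalIdeal (dual k k)) eps
    (rho_spec x (dual k k) U).2 mem_max_of_eps_mul (flatIdeal x _ I U) _ h2
  rw [red, ← I₀.ker_subschemeι_app, RingHom.mem_ker, map_sub, map_sub, sub_eq_zero] at h3
  exact h3

theorem exists_val (I : (localHilb X x I₀).obj (dual k k)) : ∃ φ, IsVal x I φ := by
  choose fz hfz using exists_mem x I
  let f : ∀ U : X.affineOpens, Γ(ClSub.idealMod I₀, U.1) → Γ(ClSub.quotMod I₀, U.1) := fun U s =>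
    I₀.subschemeι.app U.1 (rho x (dual k k) U (fz U s))
  have hadd : ∀ U a b, f U (a + b) = f U a + f U b := fun U a b => by
    have h1 := add_mem (hfz U a) (hfz U b)
    rw [add_add_add_comm, ← map_add (fstPull x (dual k k) U), ← mul_add, ← map_add (OmegaSh.idealSect I₀ U.1)] at h1
    refine (val_unique x I U _ (hfz U (a + b)) h1).trans ?_
    rw [map_add]
    exact map_add (I₀.subschemeι.app U.1).hom _ _
  obtain ⟨φ, hφ⟩ := FamilyHom.exists_hom_of_family (fun U => AddMonoidHom.mk' (f U) (hadd U))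
    (fun U V hV s => by
      have h1 := I.1.ideal_le_comap_ideal (W_mono x (dual k k) hV) (hfz U s)
      rw [Ideal.mem_comap] at h1
      change (XA x (dual k k)).presheaf.map (homOfLE (W_mono x (dual k k) hV)).op _ ∈ _ at h1
      rw [map_add, map_mul, c_map x (dual k k) hV, fstPull_map x (dual k k) hV,
        ← OmegaLib.idealSect_map I₀ hV] at h1
      show (ClSub.quotMod I₀).presheaf.map (homOfLE hV).op (f U s) =
        f V ((ClSub.idealMod I₀).presheaf.map (homOfLE hV).op s)
      refine Eq.trans ?_ (val_unique x I V _ (hfz V _) h1).symm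
      rw [rho_map x (dual k k) hV]
      exact (congr($(I₀.subschemeι.naturality (homOfLE hV).op) (rho x (dual k k) U (fz U s)))).symm)
    (fun U r s => by
      have h1 := Ideal.mul_mem_left _ (fstPull x (dual k k) U r) (hfz U s)
      rw [mul_add, ← map_mul, ← OmegaLib.idealSect_smul, mul_left_comm] at h1
      show f U (r • s) = r • f U s
      refine (val_unique x I U _ (hfz U _) h1).trans ?_
      rw [map_mul, rho_fst]
      exact map_mul (I₀.subschemeι.app U.1).hom _ _)
  exact ⟨φ, fun U s z hz => (hφ U s).trans (val_unique x I U _ (hfz U s) hz)⟩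

theorem hom_ext_affine {M N : X.Modules} {φ ψ : M ⟶ N}
    (h : ∀ (U : X.affineOpens) (s : Γ(M, U.1)), φ.app U.1 s = ψ.app U.1 s) : φ = ψ := by
  refine Scheme.Modules.hom_ext _ _ fun V => ?_
  ext v
  refine FamilyHom.ext_affine N V _ _ fun U hU => ?_
  exact (app_map φ hU v).symm.trans ((h U _).trans (app_map ψ hU v))

theorem isVal_unique {I : (localHilb X x I₀).obj (dual k k)} {φ ψ : ClSub.idealMod I₀ ⟶ ClSub.quotMod I₀}
    (h : IsVal x I φ) (h' : IsVal x I ψ) : φ = ψ := hom_ext_affine fun U s => by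
  obtain ⟨z, hz⟩ := exists_mem x I U s
  rw [h U s z hz, h' U s z hz]

theorem isVal_inj {I J : (localHilb X x I₀).obj (dual k k)} {φ : ClSub.idealMod I₀ ⟶ ClSub.quotMod I₀}
    (h : IsVal x I φ) (h' : IsVal x J φ) : I = J := by
  have key : ∀ {I J : (localHilb X x I₀).obj (dual k k)}, IsVal x I φ → IsVal x J φ → ∀ U : X.affineOpens,
      I.1.ideal (W x (dual k k) U) ≤ J.1.ideal (W x (dual k k) U) := by
    intro I J h h' U a ha
    obtain ⟨z, hz⟩ := exists_z x U a
    obtain ⟨s, hs⟩ := OmegaLib.exists_of_mem I₀ U (rho x (dual k k) U a)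
      ((red x (dual k k) I U) ▸ Ideal.mem_map_of_mem _ ha)
    obtain ⟨z', hz'⟩ := exists_mem x J U s
    have e := h U s z (by rw [hs, ← hz]; exact ha)
    rw [h' U s z' hz'] at e
    refine HilbRing.mem_of_diff_mem (c x (dual k k) U) (rho x (dual k k) U) (IsLocalRing.maximalIdeal (dual k k)) eps
      (rho_spec x (dual k k) U).2 (rho_spec x (dual k k) U).1 eps_mul_eq_zero hz'
      (show a - _ = c x (dual k k) U eps * (z - z') by
        conv_lhs => rw [hz]
        rw [hs, add_sub_add_left_eq_sub, mul_sub]) ?_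
    rw [red, ← I₀.ker_subschemeι_app, RingHom.mem_ker, map_sub, map_sub, sub_eq_zero]
    exact e.symm
  exact Subtype.ext (ext_ideal x fun U => le_antisymm (key h h' U) (key h' h U))

/-- `ε₁`. -/
noncomputable def eps₁ : dual2 k k := (TrivSqZeroExt.inr (1, 0) : TrivSqZeroExt k (k × k))

/-- A constant of `k[ε₁, ε₂]`. -/
noncomputable def inlD₂ (a : k) : dual2 k k := (TrivSqZeroExt.inl a : TrivSqZeroExt k (k × k))

/-- `ε₂`. -/
noncomputable def eps₂ : dual2 k k := (TrivSqZeroExt.inr (0, 1) : TrivSqZeroExt k (k × k))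

theorem dual_ext {a b : dual k k} (h₁ : TrivSqZeroExt.fst (show DualNumber k from a) = TrivSqZeroExt.fst (show DualNumber k from b))
    (h₂ : TrivSqZeroExt.snd (show DualNumber k from a) = TrivSqZeroExt.snd (show DualNumber k from b)) : a = b :=
  TrivSqZeroExt.ext h₁ h₂

theorem pr_eps : (pr₁ : dual2 k k ⟶ _) eps₁ = eps ∧ (pr₁ : dual2 k k ⟶ _) eps₂ = 0 ∧
    (pr₂ : dual2 k k ⟶ _) eps₁ = 0 ∧ (pr₂ : dual2 k k ⟶ _) eps₂ = eps ∧
    (plus : dual2 k k ⟶ _) eps₁ = eps ∧ (plus : dual2 k k ⟶ _) eps₂ = eps := by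
  refine ⟨?_, ?_, ?_, ?_, ?_, ?_⟩
  · exact dual_ext rfl rfl
  · exact dual_ext rfl rfl
  · exact dual_ext rfl rfl
  · exact dual_ext rfl rfl
  · exact dual_ext rfl (add_zero (1 : k))
  · exact dual_ext rfl (zero_add (1 : k))

theorem exists_z₂ (U : X.affineOpens) (a : Γ(XA x (dual2 k k), (W x (dual2 k k) U).1)) :
    ∃ z₁ z₂, a = fstPull x (dual2 k k) U (rho x (dual2 k k) U a) +
      (c x (dual2 k k) U eps₁ * z₁ + c x (dual2 k k) U eps₂ * z₂) := by
  have h : a - fstPull x (dual2 k k) U (rho x (dual2 k k) U a) ∈ RingHom.ker (rho x (dual2 k k) U) := by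
    rw [RingHom.mem_ker, map_sub, rho_fst, sub_self]
  have hm : IsLocalRing.maximalIdeal (dual2 k k) ≤ Ideal.span {(eps₁ : dual2 k k), eps₂} := fun b hb => by
    have h' : TrivSqZeroExt.fst (show TrivSqZeroExt k (k × k) from b) = 0 := (mem_maximalIdeal_iff _ b).1 hb
    let sb := TrivSqZeroExt.snd (show TrivSqZeroExt k (k × k) from b)
    have e : b = inlD₂ sb.1 * eps₁ + inlD₂ sb.2 * eps₂ := by
      have key : ∀ b' : TrivSqZeroExt k (k × k), TrivSqZeroExt.fst b' = 0 →
          b' = TrivSqZeroExt.inl (TrivSqZeroExt.snd b').1 * TrivSqZeroExt.inr (1, 0) +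
            TrivSqZeroExt.inl (TrivSqZeroExt.snd b').2 * TrivSqZeroExt.inr (0, 1) := fun b' hb' =>
        TrivSqZeroExt.ext (hb'.trans (by simp)) (by simp)
      exact key b h' 
    rw [e]
    exact Ideal.mem_span_pair.2 ⟨_, _, rfl⟩
  rw [(rho_spec x (dual2 k k) U).2] at h
  have h2 := Ideal.map_mono hm h
  rw [Ideal.map_span, Set.image_pair, Ideal.mem_span_pair] at h2
  obtain ⟨z₁, z₂, hz⟩ := h2
  exact ⟨z₁, z₂, eq_add_of_sub_eq' (hz.symm.trans (by ring))⟩

theorem isVal_add (z : (localHilb X x I₀).obj (dual2 k k)) {φ₁ φ₂ : ClSub.idealMod I₀ ⟶ ClSub.quotMod I₀}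
    (h₁ : IsVal x ((localHilb X x I₀).map pr₁ z) φ₁) (h₂ : IsVal x ((localHilb X x I₀).map pr₂ z) φ₂) :
    IsVal x ((localHilb X x I₀).map plus z) (φ₁ + φ₂) := by
  intro U s w hw
  obtain ⟨a, ha, hρ⟩ := (Ideal.mem_map_iff_of_surjective _ (rho_spec x (dual2 k k) U).1).1
    ((red x (dual2 k k) z U).symm ▸ OmegaLib.idealSect_mem I₀ U s)
  obtain ⟨z₁, z₂, hz⟩ := exists_z₂ x U a
  rw [hρ] at hz
  obtain ⟨e11, e12, e21, e22, ep1, ep2⟩ := pr_eps (k := k)
  have hp : ∀ p : dual2 k k ⟶ dual k k, pi x p U a ∈ ((localHilb X x I₀).map p z).1.ideal (W x (dual k k) U) := fun p => by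
    rw [show ((localHilb X x I₀).map p z).1 = z.1.comap (XAmap x p) from rfl, comap_map_ideal]
    exact Ideal.mem_map_of_mem _ ha
  have q₁ := hp pr₁
  have q₂ := hp pr₂
  have qp := hp plus
  rw [hz, map_add, map_add, map_mul, map_mul, pi_c, pi_c, pi_fstPull] at q₁ q₂ qp
  rw [e11, e12, map_zero, zero_mul, add_zero] at q₁
  rw [e21, e22, map_zero, zero_mul, zero_add] at q₂
  rw [ep1, ep2, ← mul_add] at qp
  rw [val_unique x _ U _ hw qp, map_add, rho_pi, rho_pi, map_add]
  show φ₁.app U.1 s + φ₂.app U.1 s = _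
  rw [h₁ U s _ q₁, h₂ U s _ q₂, rho_pi, rho_pi]

theorem str_eq (U : X.affineOpens) (c₀ : k) :
    str x U c₀ = X.presheaf.map (homOfLE (le_top : U.1 ≤ ⊤)).op (Coh.toGlobal x c₀) := by
  show ((XApr x (Art.base k k)).appLE ⊤ (W x (Art.base k k) U).1 _ ≫
    (XAincl x (Art.base k k)).appLE (W x (Art.base k k) U).1 U.1 _) ((Scheme.ΓSpecIso (CommRingCat.of k)).inv c₀) = _
  rw [Scheme.Hom.appLE_comp_appLE]
  have h1 : XAincl x (Art.base k k) ≫ XApr x (Art.base k k) = x := by
    rw [XAincl_snd, show specRes (Art.base k k) = 𝟙 _ from Spec.map_id _, Category.comp_id]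
  refine (congr($(appLE_congr h1 _ _ _ le_top) ((Scheme.ΓSpecIso (CommRingCat.of k)).inv c₀))).trans ?_
  rfl

section Linear

variable [X.Over (Spec (CommRingCat.of k))]

theorem isVal_smul (hX : (X ↘ Spec (CommRingCat.of k)) = x) (c₀ : k) {I : (localHilb X x I₀).obj (dual k k)}
    {φ : ClSub.idealMod I₀ ⟶ ClSub.quotMod I₀} (h : IsVal x I φ) :
    IsVal x ((localHilb X x I₀).map (scale c₀) I) (c₀ • φ) := by
  intro U s w hw
  obtain ⟨z, hz⟩ := exists_mem x I U s
  have q : pi x (scale c₀) U (fstPull x (dual k k) U (OmegaSh.idealSect I₀ U.1 s) + c x (dual k k) U eps * z) ∈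
      ((localHilb X x I₀).map (scale c₀) I).1.ideal (W x (dual k k) U) := by
    rw [show ((localHilb X x I₀).map (scale c₀) I).1 = I.1.comap (XAmap x (scale c₀)) from rfl, comap_map_ideal]
    exact Ideal.mem_map_of_mem _ hz
  have he : (scale c₀ : dual k k ⟶ _) eps = eps * inlD c₀ := by
    refine dual_ext ?_ ?_
    · show (0 : k) = TrivSqZeroExt.fst ((TrivSqZeroExt.inr 1 : DualNumber k) * TrivSqZeroExt.inl c₀)
      simp
    · show c₀ * 1 = TrivSqZeroExt.snd ((TrivSqZeroExt.inr 1 : DualNumber k) * TrivSqZeroExt.inl c₀)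
      simp
  rw [map_add, map_mul, pi_c, pi_fstPull, he, map_mul, _root_.mul_assoc] at q
  rw [val_unique x _ U _ hw q, map_mul, rho_pi, KLin.smul_app_apply, h U s z hz, (isDef_amb x (dual k k) U).comm, hX,
    show (dual k k).res (inlD c₀) = c₀ from rfl, str_eq, map_mul]
  rfl

/-- The tangent map. -/
theorem exists_linearMap (hX : (X ↘ Spec (CommRingCat.of k)) = x) [TangentStr (localHilb X x I₀)] :
    ∃ Ψ : TangentSpace (localHilb X x I₀) →ₗ[k] (ClSub.idealMod I₀ ⟶ ClSub.quotMod I₀), Function.Injective Ψ := by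
  choose f hf using exists_val x (I₀ := I₀)
  refine ⟨{ toFun := fun t => f t.val, map_add' := fun t t' => ?_, map_smul' := fun c₀ t => ?_ },
    fun t t' h => isVal_inj x (hf t.val) (by have h' : f t.val = f t'.val := h; rw [h']; exact hf t'.val)⟩
  · obtain ⟨z, hz₁, hz₂⟩ := exists_pair (h0 x) (conditions x).2.1 t.val t'.val
    have e : t + t' = TangentSpace.mk ((localHilb X x I₀).map plus z) := by
      rw [← tangent_add_eq, hz₁, hz₂]
      rfl
    rw [e]
    exact isVal_unique x (hf _) (isVal_add x z (by rw [hz₁]; exact hf _) (by rw [hz₂]; exact hf _))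
  · rw [show c₀ • t = TangentSpace.mk ((localHilb X x I₀).map (scale c₀) t.val) from tangent_smul_eq c₀ t.val]
    exact isVal_unique x (hf _) (isVal_smul x hX c₀ (hf _))

end Linear

end Groth.Agent.ArtFunLib.HilbTangent
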