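import Groth.Agent.ArtFunLib.HilbMod
import Groth.Agent.ArtFunLib.HilbTangent
import Groth.Agent.QCoh.ClosedPush
import Groth.Agent.AmpleVan.ThickPush
import Groth.Agent.QCoh.Pullback
import Groth.Agent.ExtShX.Divisor

/-! Extending morphisms to `i_* O_Z` when `Ext¹(i^* M, O_Z) = 0`. -/

set_option autoImplicit false
set_option backward.isDefEq.respectTransparency false
set_option backward.isDefEq.respectTransparency.types false
set_option maxHeartbeats 800000
universe u

open CategoryTheory CategoryTheory.Limits AlgebraicGeometry Opposite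

noncomputable section

namespace Groth.Agent.ArtFunLib.HilbClosedExt

variable {X Z : Scheme.{u}} (i : Z ⟶ X) [IsClosedImmersion i]

theorem exists_preimage {M N : Z.Modules} (hM : Coh.IsQCoh M)
    (f : (Scheme.Modules.pushforward i).obj M ⟶ (Scheme.Modules.pushforward i).obj N) :
    ∃ g : M ⟶ N, (Scheme.Modules.pushforward i).map g = f := by
  let adj := Scheme.Modules.pullbackPushforwardAdjunction i
  haveI := AmpleVan.isIso_counit i hM
  refine ⟨inv (adj.counit.app M) ≫ (Scheme.Modules.pullback i).map f ≫ adj.counit.app N, ?_⟩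
  have h1 : adj.unit.app ((Scheme.Modules.pushforward i).obj M) =
      (Scheme.Modules.pushforward i).map (inv (adj.counit.app M)) := by
    rw [Functor.map_inv, ← cancel_mono ((Scheme.Modules.pushforward i).map (adj.counit.app M)), IsIso.inv_hom_id]
    exact adj.right_triangle_components M
  rw [Functor.map_comp, Functor.map_comp, ← h1]
  have h2 := adj.unit.naturality f
  simp only [Functor.id_map, Functor.comp_map] at h2
  rw [← Category.assoc, ← h2, Category.assoc, adj.right_triangle_components]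
  exact Category.comp_id f

/-- Extension along a kernel of a morphism to `i_* O_Z`. -/
theorem exists_extension [HasExt.{u} Z.Modules] {G M : X.Modules} (hG : Coh.IsQCoh G) (hM : Coh.IsQCoh M)
    (φ : G ⟶ M) [Epi φ] (hsurj : ∀ U : X.affineOpens, Function.Surjective (φ.app U.1))
    (h1 : Subsingleton (Abelian.Ext.{u} ((Scheme.Modules.pullback i).obj M) (Coh.structureModule Z) 1))
    {Q : X.Modules} (q : Q ≅ (Scheme.Modules.pushforward i).obj (Coh.structureModule Z)) (κ : kernel φ ⟶ Q)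
    (hvan : ∀ (U : X.affineOpens) (v : Γ(kernel φ, U.1)),
      (kernel.ι φ).app U.1 v ∈ i.ker.ideal U • (⊤ : Submodule Γ(X, U.1) Γ(G, U.1)) → κ.app U.1 v = 0) :
    ∃ θ : G ⟶ Q, kernel.ι φ ≫ θ = κ := by
  classical
  let adj := Scheme.Modules.pullbackPushforwardAdjunction i
  let push := Scheme.Modules.pushforward i
  let pull := Scheme.Modules.pullback i
  haveI : pull.IsLeftAdjoint := adj.isLeftAdjoint
  haveI : push.IsRightAdjoint := adj.isRightAdjoint
  haveI : Epi (pull.map φ) := inferInstance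
  let φ' := push.map (pull.map φ)
  let ηG : G ⟶ push.obj (pull.obj G) := adj.unit.app G
  let ηM : M ⟶ push.obj (pull.obj M) := adj.unit.app M
  have hnat : φ ≫ ηM = ηG ≫ φ' := adj.unit.naturality φ
  let π : kernel φ ⟶ kernel φ' := kernel.lift φ' (kernel.ι φ ≫ ηG) (by
    rw [Category.assoc, ← hnat, kernel.condition_assoc, zero_comp])
  have hπ : π ≫ kernel.ι φ' = kernel.ι φ ≫ ηG := kernel.lift_ι _ _ _
  haveI : Epi π := ⟨fun {N} g g' hg => HilbTangent.hom_ext_affine fun U v => by
    obtain ⟨(s : Γ(G, U.1)), (hs : ηG.app U.1 s = (kernel.ι φ').app U.1 v)⟩ :=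
      (QCoh.unit_app_closed i hG U.2).1 ((kernel.ι φ').app U.1 v)
    have h0 : (ηM).app U.1 (φ.app U.1 s) = 0 := by
      have e1 : (φ ≫ ηM).app U.1 s = (ηG ≫ φ').app U.1 s := by rw [hnat]
      refine Eq.trans e1 ?_
      show φ'.app U.1 ((ηG).app U.1 s) = 0
      refine (congrArg (φ'.app U.1) hs).trans ?_
      exact congr(($(kernel.condition φ')).app U.1 v)
    have h2 := ((QCoh.unit_app_closed i hM U.2).2 _).1 h0
    have h3 : ∀ m ∈ (i.ker.ideal U • (⊤ : Submodule Γ(X, U.1) Γ(M, U.1))),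
        ∃ s₁ ∈ (i.ker.ideal U • (⊤ : Submodule Γ(X, U.1) Γ(G, U.1))), φ.app U.1 s₁ = m := fun m hm => by
      refine Submodule.smul_induction_on hm (fun a ha n _ => ?_) fun m₁ m₂ h₁ h₂ => ?_
      · obtain ⟨s', rfl⟩ := hsurj U n
        exact ⟨a • s', Submodule.smul_mem_smul ha Submodule.mem_top, Scheme.Modules.Hom.app_smul _ _ _⟩
      · obtain ⟨a, ha, rfl⟩ := h₁
        obtain ⟨b, hb, rfl⟩ := h₂
        exact ⟨a + b, add_mem ha hb, map_add _ _ _⟩
    obtain ⟨s₁, hs₁, hs₁φ⟩ := h3 _ h2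
    have hk0 : φ.app U.1 (s - s₁) = 0 := by rw [map_sub, hs₁φ, sub_self]
    let v₀ := OmegaSh.kerLift φ U.1 (s - s₁) hk0
    have hv₀ : (kernel.ι φ).app U.1 v₀ = s - s₁ := OmegaSh.ι_kerLift φ U.1 _ hk0
    have hπv : π.app U.1 v₀ = v := by
      refine QCoh.app_injective (kernel.ι φ') U.1 ?_
      refine (congr(($hπ).app U.1 v₀)).trans ?_
      show (ηG).app U.1 ((kernel.ι φ).app U.1 v₀) = _
      rw [hv₀, map_sub, show ηG.app U.1 s₁ = 0 from ((QCoh.unit_app_closed i hG U.2).2 _).2 hs₁, sub_zero, hs]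
    rw [← hπv]
    exact congr(($hg).app U.1 v₀)⟩
  have hker : kernel.ι π ≫ κ = 0 := HilbTangent.hom_ext_affine fun U v => by
    show κ.app U.1 ((kernel.ι π).app U.1 v) = 0
    refine hvan U _ (((QCoh.unit_app_closed i hG U.2).2 _).1 ?_)
    have e1 : (π ≫ kernel.ι φ').app U.1 ((kernel.ι π).app U.1 v) =
        (kernel.ι φ ≫ ηG).app U.1 ((kernel.ι π).app U.1 v) := by rw [hπ]
    refine e1.symm.trans ?_
    show (kernel.ι φ').app U.1 (π.app U.1 ((kernel.ι π).app U.1 v)) = 0
    rw [show π.app U.1 ((kernel.ι π).app U.1 v) = 0 from congr(($(kernel.condition π)).app U.1 v), map_zero]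
  let κ₁ : kernel φ' ⟶ Q := (Abelian.epiIsCokernelOfKernel _ (kernelIsKernel π)).desc (CokernelCofork.ofπ κ hker)
  have hκ₁ : π ≫ κ₁ = κ := (Abelian.epiIsCokernelOfKernel _ (kernelIsKernel π)).fac (CokernelCofork.ofπ κ hker) WalkingParallelPair.one
  haveI : PreservesLimit (parallelPair (pull.map φ) 0) push := inferInstance
  let e := PreservesKernel.iso push (pull.map φ)
  have hKq : Coh.IsQCoh (kernel (pull.map φ)) :=
    QCoh.isQCoh_kernel (QCoh.isQCoh_pullback i hG) (QCoh.isQCoh_pullback i hM) _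
  obtain ⟨κZ, hκZ⟩ := exists_preimage i hKq (e.hom ≫ κ₁ ≫ q.hom)
  obtain ⟨θ', hθ'⟩ := HilbMod.exists_extend (pull.map φ) κZ h1
  refine ⟨ηG ≫ push.map θ' ≫ q.inv, ?_⟩
  have hι : kernel.ι φ' = e.inv ≫ push.map (kernel.ι (pull.map φ)) := by
    rw [Iso.eq_inv_comp]
    exact (PreservesKernel.iso_hom push (pull.map φ) ▸ kernelComparison_comp_ι (pull.map φ) push)
  rw [← Category.assoc (kernel.ι φ), ← hπ, hι]
  simp only [Category.assoc]
  rw [← Functor.map_comp_assoc, hθ', hκZ]
  simp only [Category.assoc, Iso.inv_hom_id_assoc, Iso.hom_inv_id, Category.comp_id]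
  exact hκ₁

end Groth.Agent.ArtFunLib.HilbClosedExt
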