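import Groth.Agent.ArtFunLib.HilbLocSmooth
import Groth.Agent.DefTCodim2.Reduce
import Groth.Agent.S11460

/-! Lifted relations for codimension two Cohen–Macaulay subschemes. -/

set_option autoImplicit false
set_option backward.isDefEq.respectTransparency false
set_option backward.isDefEq.respectTransparency.types false
set_option maxHeartbeats 1000000
universe u

open CategoryTheory CategoryTheory.Limits AlgebraicGeometry ArtFun ArtFun.Art Opposite TopologicalSpace
open scoped Matrix

noncomputable section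

namespace Groth.Agent.ArtFunLib.HilbCodimTwo

open HilbAffine HilbSit

variable {k : Type u} [Field k] {X : Scheme.{u}} (x : X ⟶ specPt k)

theorem isNoetherianRing [LocallyOfFiniteType x] (A : Art k k) (U : X.affineOpens) :
    IsNoetherianRing Γ(XA x A, (W x A U).1) := by
  haveI : LocallyOfFiniteType (XApr x A) := MorphismProperty.pullback_snd x (specOver A) inferInstance
  haveI : IsLocallyNoetherian (Spec (CommRingCat.of A)) := inferInstance
  haveI : IsLocallyNoetherian (XA x A) := LocallyOfFiniteType.isLocallyNoetherian (XApr x A)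
  exact IsLocallyNoetherian.component_noetherian (W x A U)

theorem hasLocalData [Smooth x] {Z : Scheme.{u}} (i : Z ⟶ X) [IsClosedImmersion i]
    (hCM : ∀ y : Z, LocCoh.IsCohenMacaulayLocalRing (Z.presheaf.stalk y))
    (hcodim : ∀ y : Z, ringKrullDim (Z.presheaf.stalk y) + 2 = ringKrullDim (X.presheaf.stalk (i.base y)))
    {B A : Art k k} (p : B ⟶ A) (hp : IsSmallExt p) (IA : (localHilb X x i.ker).obj A) :
    HilbLocSmooth.HasLocalData x i.ker p IA := by
  classical
  have h0A : ∀ V, (IA.1.ideal (W x A V)).map (rho x A V) = i.ker.ideal V := fun V => by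
    rw [← comap_incl_ideal, IA.2.2]
  intro q
  by_cases hq : q ∈ Set.range i
  · obtain ⟨z, rfl⟩ := hq
    obtain ⟨U, hzU, r, φ₀, hspan, hinj, hrange⟩ := S11460.result k X Z x i hCM hcodim z
    haveI := isNoetherianRing x A U
    letI : Algebra A Γ(XA x A, (W x A U).1) := (c x A U).toAlgebra
    haveI hflA : Module.Flat A Γ(XA x A, (W x A U).1) := flat_c x A U
    haveI hflI : Module.Flat A (Γ(XA x A, (W x A U).1) ⧸ IA.1.ideal (W x A U)) :=
      RingHom.flat_algebraMap_iff.1 (flat_quotient x IA.1 IA.2.1 U :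
        (algebraMap A (Γ(XA x A, (W x A U).1) ⧸ IA.1.ideal (W x A U))).Flat)
    let ρA := rho x A U
    have hρA := (rho_spec x A U).1
    have hker : RingHom.ker ρA = (IsLocalRing.maximalIdeal A).map (algebraMap A Γ(XA x A, (W x A U).1)) :=
      (rho_spec x A U).2
    choose s hs using fun (a : Fin (r + 1)) (b : Fin r) => hρA (φ₀ a b)
    let φ₁ : Matrix (Fin (r + 1)) (Fin r) Γ(XA x A, (W x A U).1) := Matrix.of s
    have hφ₁ : φ₁.map ρA = φ₀ := Matrix.ext fun a b => hs a b
    have hex₀ : DefTCodim2.ExactMod φ₀ ⊥ := by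
      refine ⟨fun v hv => ?_, fun w hw b => ?_⟩
      · have hv' : v ∈ LinearMap.range φ₀.mulVecLin := hrange ▸ LinearMap.mem_ker.2 (Ideal.mem_bot.1 hv)
        obtain ⟨w, rfl⟩ := hv'
        exact ⟨w, fun a => by rw [Matrix.mulVecLin_apply, sub_self]; exact zero_mem _⟩
      · have hw0 : φ₀.mulVecLin w = φ₀.mulVecLin 0 := by
          rw [map_zero, Matrix.mulVecLin_apply]; exact funext fun a => Ideal.mem_bot.1 (hw a)
        rw [hinj hw0]; exact zero_mem _
    have hex : DefTCodim2.ExactMod φ₁ ((IsLocalRing.maximalIdeal A).map (algebraMap A Γ(XA x A, (W x A U).1))) := by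
      refine DefTCodim2.exactMod_of_map ρA hρA hker.le φ₁ ?_
      rw [hφ₁, show ((IsLocalRing.maximalIdeal A).map (algebraMap A Γ(XA x A, (W x A U).1))).map ρA = ⊥ from
        (Ideal.map_eq_bot_iff_le_ker ρA).2 hker.ge]
      exact hex₀
    have hsup : IA.1.ideal (W x A U) ⊔ RingHom.ker ρA = Ideal.span (Set.range (McCoy.delta φ₁)) ⊔ RingHom.ker ρA := by
      rw [RingHom.ker_eq_comap_bot, ← Ideal.comap_map_of_surjective _ hρA, ← Ideal.comap_map_of_surjective _ hρA,
        show (IA.1.ideal (W x A U)).map ρA = i.ker.ideal U from h0A U, Ideal.map_span, ← Set.range_comp, ← hspan]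
      refine congrArg (fun f => (Ideal.span (Set.range f)).comap ρA) (funext fun a => ?_)
      exact (congrFun (congrArg McCoy.delta hφ₁.symm) a).trans (DefTCodim2.map_delta φ₁ ρA a)
    obtain ⟨φA, hφA, hφAspan, -, -⟩ := DefTCodim2.exists_lift φ₁ (IsLocalRing.maximalIdeal A)
      (IsLocalRing.maximalIdeal.isMaximal A).ne_top hex (IA.1.ideal (W x A U)) (by
        rw [← hker]
        have h := congrArg (Ideal.map (Ideal.Quotient.mk (RingHom.ker ρA))) hsup
        rwa [Ideal.map_sup, Ideal.map_sup, Ideal.map_quotient_self, sup_bot_eq, sup_bot_eq] at h)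
    have hφA₀ : φA.map ρA = φ₀ := Matrix.ext fun a b => by
      rw [← hφ₁, Matrix.map_apply, Matrix.map_apply, ← sub_eq_zero, ← map_sub, ← RingHom.mem_ker, hker]
      exact Ideal.Quotient.eq.1 (congrFun (congrFun hφA a) b)
    choose sB hsB using fun (a : Fin (r + 1)) (b : Fin r) => (pi_spec x p hp.1 U).1 (φA a b)
    let φB : Matrix (Fin (r + 1)) (Fin r) Γ(XA x B, (W x B U).1) := Matrix.of sB
    have hπ : φB.map (HilbAffine.pi x p U) = φA := Matrix.ext fun a b => hsB a b
    have hρ : φB.map (rho x B U) = φ₀ := Matrix.ext fun a b => by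
      rw [← hφA₀, ← hπ, Matrix.map_apply, Matrix.map_apply, Matrix.map_apply]
      exact (rho_pi x p U _).symm
    refine ⟨U, hzU, r + 1, McCoy.delta φB, fun a => ?_, ?_, fun a ha => ?_⟩
    · rw [← DefTCodim2.map_delta, hπ, ← hφAspan]
      exact Ideal.subset_span ⟨a, rfl⟩
    · rw [← hspan]
      refine le_of_eq (congrArg (fun f => Ideal.span (Set.range f)) (funext fun a => ?_))
      exact (congrFun (congrArg McCoy.delta hρ.symm) a).trans (DefTCodim2.map_delta φB (rho x B U) a)
    · have ha' : a ∈ LinearMap.range φ₀.mulVecLin := by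
        rw [hrange]
        show DefTCodim2.dmap φ₀ a = 0
        rw [DefTCodim2.dmap_apply, ← ha]
        refine Finset.sum_congr rfl fun b _ => ?_
        rw [← DefTCodim2.map_delta, hρ, mul_comm]
      obtain ⟨w, rfl⟩ := ha'
      choose w' hw' using fun b => (rho_spec x B U).1 (w b)
      refine ⟨φB *ᵥ w', fun b => ?_, ?_⟩
      · rw [RingHom.map_mulVec, hρ, Matrix.mulVecLin_apply, show (rho x B U) ∘ w' = w from funext hw']
      · have h := DefTCodim2.dmap_mulVec φB w'
        rw [DefTCodim2.dmap_apply] at h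
        rw [← h]
        exact Finset.sum_congr rfl fun b _ => mul_comm _ _
  · have ho : IsOpen (Set.range i)ᶜ := i.isClosedEmbedding.isClosed_range.isOpen_compl
    obtain ⟨_, ⟨V, hV, rfl⟩, hqV, hVU⟩ := X.isBasis_affineOpens.exists_subset_of_mem_open hq ho
    have htop : i.ker.ideal ⟨V, hV⟩ = ⊤ := by
      rw [Ideal.eq_top_iff_one]
      haveI : Subsingleton Γ(Z, i ⁻¹ᵁ V) := by
        rw [show i ⁻¹ᵁ V = ⊥ from eq_bot_iff.2 fun w hw => (hVU hw ⟨w, rfl⟩).elim]
        infer_instance
      rw [Scheme.Hom.ker_apply, RingHom.mem_ker]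
      exact Subsingleton.elim _ _
    obtain ⟨a, ha, ha1⟩ := (Ideal.mem_map_iff_of_surjective _ (rho_spec x A ⟨V, hV⟩).1).1
      (show (1 : Γ(X, V)) ∈ (IA.1.ideal (W x A ⟨V, hV⟩)).map (rho x A ⟨V, hV⟩) by rw [h0A, htop]; trivial)
    obtain ⟨b, rfl⟩ := (pi_spec x p hp.1 ⟨V, hV⟩).1 a
    have hb1 : rho x B ⟨V, hV⟩ b = 1 := (rho_pi x p _ b).symm.trans ha1
    refine ⟨⟨V, hV⟩, hqV, 1, fun _ => b, fun _ => ha, ?_, fun v hv => ⟨fun _ => 0, fun j => ?_, by simp⟩⟩
    · rw [htop, show (⊤ : Ideal Γ(X, V)) = Ideal.span {1} from Ideal.span_singleton_one.symm]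
      refine Ideal.span_mono ?_
      rintro _ rfl
      exact ⟨0, hb1⟩
    · rw [Fin.sum_univ_one, hb1, mul_one] at hv
      rw [Subsingleton.elim j 0, hv, map_zero]

theorem isSmooth [Smooth x] {Z : Scheme.{u}} (i : Z ⟶ X) [IsClosedImmersion i]
    (I₀ : X.IdealSheafData) (hker : i.ker = I₀)
    (hCM : ∀ y : Z, LocCoh.IsCohenMacaulayLocalRing (Z.presheaf.stalk y))
    (hcodim : ∀ y : Z, ringKrullDim (Z.presheaf.stalk y) + 2 = ringKrullDim (X.presheaf.stalk (i.base y)))
    [DCoh.HasSheafHom (Omega.conormal i)]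
    (h1 : Subsingleton (Coh.HH Z ((DCoh.sheafHom (Omega.conormal i)).obj (Coh.structureModule Z)) 1)) :
    IsSmoothFunctor (localHilb X x I₀) := by
  subst hker
  exact HilbLocSmooth.surjective_of_local (fun B A p hp IA => hasLocalData x i hCM hcodim p hp IA)
    (HilbLocSmooth.subsingleton_hom_quotMod i h1)

end Groth.Agent.ArtFunLib.HilbCodimTwo
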