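import Groth.Agent.ExtShX.FundIso
import Groth.Agent.QCoh.Pullback
import Groth.Prelude.Def_Mor2

/-! The conormal sheaf of a regular closed immersion is locally free. -/

set_option autoImplicit false
set_option linter.style.haveILetI false
set_option linter.unusedSectionVars false
set_option backward.isDefEq.respectTransparency false
set_option backward.isDefEq.respectTransparency.types false
set_option maxHeartbeats 800000
universe u

open CategoryTheory CategoryTheory.Limits AlgebraicGeometry TopologicalSpace Opposite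
open Groth.Agent.WiebeLib Groth.Agent.Synt29

noncomputable section

namespace Groth.Agent.ExtShX.Fund

variable {X P : Scheme.{u}} (ι : X ⟶ P) [IsClosedImmersion ι]

theorem exists_chart_of_regular (hι : Mor2.IsRegularClosedImmersion ι) (a : X) :
    ∃ (r : ℕ) (c : Chart ι r), ι a ∈ c.U := by
  classical
  obtain ⟨U, hU, hxU, rs, hrs, hker0⟩ := hι.2 a
  let U : P.affineOpens := ⟨U, hU⟩
  let f : Fin rs.length → Γ(P, U.1) := fun i => rs.get i
  have hof : List.ofFn f = rs := List.ofFn_getElem
  have hrange : Set.range f = {y | y ∈ rs} := Set.ext fun y => by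
    rw [Set.mem_range, ← List.mem_ofFn, hof]; rfl
  have hker' : RingHom.ker (ι.app U.1).hom = Ideal.span (Set.range f) := by
    rw [hrange, ← Scheme.Hom.ker_apply, hker0]
  have hex : IsExact f := KRegLib.isExact_of_isWeaklyRegular f (by rw [hof]; exact hrs.toIsWeaklyRegular)
  refine ⟨rs.length, ?_⟩
  refine ⟨⟨U.1, U.2, f, fun x hx => ?_, fun x hx => ?_, fun i => ?_⟩, hxU⟩
  · letI : Algebra Γ(P, U.1) (P.presheaf.stalk x) := P.presheaf.algebra_section_stalk ⟨x, hx⟩
    haveI := U.2.isLocalization_stalk ⟨x, hx⟩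
    haveI : Module.Flat Γ(P, U.1) (P.presheaf.stalk x) :=
      IsLocalization.flat _ (U.2.primeIdealOf ⟨x, hx⟩).asIdeal.primeCompl
    exact isExact_map hex
  · rw [show (Set.range fun i => P.presheaf.germ U.1 x hx (f i)) = (P.presheaf.germ U.1 x hx).hom '' Set.range f from
      Set.range_comp _ f, ← Ideal.map_span, ← hker']
    by_cases hr : x ∈ Set.range ι
    · obtain ⟨b, rfl⟩ := hr
      rw [Jst_eq_ker, RegNear.ker_stalkMap ι b U.2 hx]
    · rw [Jst_eq_top ι hr, eq_comm, Ideal.eq_top_iff_one]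
      let V : P.Opens := U.1 ⊓ ⟨(Set.range ι)ᶜ, ι.isClosedEmbedding.isClosed_range.isOpen_compl⟩
      obtain ⟨g, hgV, hxg⟩ := U.2.exists_basicOpen_le (V := V) ⟨x, hx, hr⟩ hx
      have h0 : X.basicOpen (ι.app U.1 g) = ⊥ := by
        rw [← Scheme.preimage_basicOpen]
        exact eq_bot_iff.2 fun b hb => (hgV hb).2 ⟨b, rfl⟩
      obtain ⟨m, hm⟩ := (Scheme.isNilpotent_iff_basicOpen_eq_bot_of_isCompact (U.2.preimage ι).isCompact _).2 h0
      have hu : IsUnit (P.presheaf.germ U.1 x hx g) := (P.mem_basicOpen g x hx).1 hxg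
      have hmem : P.presheaf.germ U.1 x hx (g ^ m) ∈ (RingHom.ker (ι.app U.1).hom).map (P.presheaf.germ U.1 x hx).hom :=
        Ideal.mem_map_of_mem _ (RingHom.mem_ker.2 (by rw [map_pow]; exact hm))
      rw [map_pow] at hmem
      exact (Ideal.eq_top_iff_one _).1 (Ideal.eq_top_of_isUnit_mem _ hmem (hu.pow m))
  · exact RingHom.mem_ker.1 (hker'.ge (Ideal.subset_span ⟨i, rfl⟩))

/-- The conormal sheaf of a regular closed immersion is locally free. -/
theorem isFinLocFree_conormal (hι : Mor2.IsRegularClosedImmersion ι) : FlatMod.IsFinLocFree (Omega.conormal ι) :=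
  fun a => by
    obtain ⟨r, c, hc⟩ := exists_chart_of_regular ι hι a
    obtain ⟨e⟩ := H23.Frame.exists_iso_of_frame (coSec ι c) (coSec_isFrame ι c)
    exact ⟨ι ⁻¹ᵁ c.U, r, hc, ⟨e⟩⟩

end Groth.Agent.ExtShX.Fund
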