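import Groth.Agent.ArtFunLib.HilbObsRing
import Mathlib.RingTheory.Regular.RegularSequence

/-! Local vanishing of the obstruction for a weakly regular ideal. -/

set_option autoImplicit false
universe u v w

namespace Groth.Agent.ArtFunLib.HilbKoszul

variable {R : Type v} {R₀ : Type w} [CommRing R] [CommRing R₀] (ρ : R →+* R₀)

/-- Relations of a weakly regular family lift to relations of any lifts. -/
theorem exists_relation (hρ : Function.Surjective ρ) : ∀ (n : ℕ) (g : Fin n → R),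
    (∀ (i : Fin n) (x : R₀), x * ρ (g i) ∈ Ideal.span ((ρ ∘ g) '' {j | j < i}) →
      x ∈ Ideal.span ((ρ ∘ g) '' {j | j < i})) →
    ∀ a : Fin n → R₀, ∑ i, a i * ρ (g i) = 0 →
      ∃ a' : Fin n → R, (∀ i, ρ (a' i) = a i) ∧ ∑ i, a' i * g i = 0
  | 0, _, _, _, _ => ⟨Fin.elim0, fun i => i.elim0, by simp⟩
  | n + 1, g, hg, a, ha => by
    classical
    let g₀ : Fin n → R := g ∘ Fin.castSucc
    have hset : (ρ ∘ g) '' {j | j < Fin.last n} = Set.range (ρ ∘ g₀) := by
      ext y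
      constructor
      · rintro ⟨j, hj, rfl⟩
        exact ⟨j.castPred (ne_of_lt hj), by simp [g₀]⟩
      · rintro ⟨j, rfl⟩
        exact ⟨j.castSucc, Fin.castSucc_lt_last j, rfl⟩
    rw [Fin.sum_univ_castSucc] at ha
    have hmem : a (Fin.last n) ∈ Ideal.span ((ρ ∘ g) '' {j | j < Fin.last n}) := by
      refine hg _ _ ?_
      rw [eq_neg_of_add_eq_zero_right ha]
      refine neg_mem (sum_mem fun i _ => Ideal.mul_mem_left _ _ (Ideal.subset_span ?_))
      exact ⟨i.castSucc, Fin.castSucc_lt_last i, rfl⟩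
    rw [hset] at hmem
    obtain ⟨s, hs⟩ := Ideal.mem_span_range_iff_exists_fun.1 hmem
    have hg₀ : ∀ (i : Fin n) (x : R₀), x * ρ (g₀ i) ∈ Ideal.span ((ρ ∘ g₀) '' {j | j < i}) →
        x ∈ Ideal.span ((ρ ∘ g₀) '' {j | j < i}) := fun i x hx => by
      have e : (ρ ∘ g₀) '' {j | j < i} = (ρ ∘ g) '' {j | j < i.castSucc} := by
        ext y
        constructor
        · rintro ⟨j, hj, rfl⟩
          exact ⟨j.castSucc, Fin.castSucc_lt_castSucc_iff.2 hj, rfl⟩
        · rintro ⟨j, hj, rfl⟩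
          have hne : j ≠ Fin.last n := ne_of_lt (lt_of_lt_of_le (show j < i.castSucc from hj) (Fin.le_last _))
          exact ⟨j.castPred hne, show j.castPred hne < i from by
            rwa [← Fin.castSucc_lt_castSucc_iff, Fin.castSucc_castPred], by simp [g₀]⟩
      rw [e] at hx ⊢
      exact hg _ x hx
    obtain ⟨b', hb, hsum⟩ := exists_relation hρ n g₀ hg₀ (fun i => a i.castSucc + s i * ρ (g (Fin.last n))) (by
      simp only [add_mul, Finset.sum_add_distrib]
      rw [← ha]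
      congr 1
      rw [← hs, Finset.sum_mul]
      exact Finset.sum_congr rfl fun i _ => by simp only [Function.comp_apply, g₀]; ring)
    choose s' hs' using fun i => hρ (s i)
    refine ⟨Fin.snoc (fun i => b' i - s' i * g (Fin.last n)) (∑ i, s' i * g₀ i), fun i => ?_, ?_⟩
    · refine Fin.lastCases ?_ (fun i => ?_) i
      · rw [Fin.snoc_last, map_sum, ← hs]
        exact Finset.sum_congr rfl fun i _ => by rw [map_mul, hs']; rfl
      · rw [Fin.snoc_castSucc, map_sub, map_mul, hs', hb]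
        ring
    · rw [Fin.sum_univ_castSucc]
      simp only [Fin.snoc_castSucc, Fin.snoc_last, Finset.sum_mul]
      rw [← Finset.sum_add_distrib, ← hsum]
      exact Finset.sum_congr rfl fun i _ => by simp only [g₀, Function.comp_apply]; ring

theorem sep_of_isWeaklyRegular (rs : List R₀) (h : RingTheory.Sequence.IsWeaklyRegular R₀ rs) (i : Fin rs.length)
    (x : R₀) (hx : x * rs[i] ∈ Ideal.span ((fun j : Fin rs.length => rs[j]) '' {j | j < i})) :
    x ∈ Ideal.span ((fun j : Fin rs.length => rs[j]) '' {j | j < i}) := by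
  have hset : (fun j : Fin rs.length => rs[j]) '' {j | j < i} = {y | y ∈ rs.take i} := by
    ext y
    constructor
    · rintro ⟨j, hj, rfl⟩
      exact List.mem_take_iff_getElem.2 ⟨j, by have : j.1 < i.1 := hj; omega, rfl⟩
    · intro hy
      obtain ⟨j, hj, rfl⟩ := List.mem_take_iff_getElem.1 hy
      exact ⟨⟨j, by omega⟩, (by show j < i.1; omega), rfl⟩
  rw [hset] at hx ⊢
  change x * rs[i.1] ∈ Ideal.ofList (rs.take i.1) at hx
  show x ∈ Ideal.ofList (rs.take i.1)
  have e : (Ideal.ofList (rs.take i.1) • ⊤ : Submodule R₀ R₀) = Ideal.ofList (rs.take i.1) := by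
    rw [smul_eq_mul, Ideal.mul_top]
  have h2 := h.regular_mod_prev i.1 i.2
  rw [e] at h2
  have h3 : rs[i.1] • (Submodule.Quotient.mk x : R₀ ⧸ (Ideal.ofList (rs.take i.1) : Submodule R₀ R₀)) =
      rs[i.1] • 0 := by
    rw [smul_zero, ← Submodule.Quotient.mk_smul, Submodule.Quotient.mk_eq_zero, smul_eq_mul, mul_comm]
    exact hx
  exact (Submodule.Quotient.mk_eq_zero _).1 (h2 h3)

open HilbObsRing

variable {B A : Type u} [CommRing B] [CommRing A] [IsLocalRing A] {RA : Type v} [CommRing RA]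
  (σ : Sit B A R RA R₀) {IA : Ideal RA}

theorem comap_le_span (hIA : ((Ideal.Quotient.mk IA).comp σ.cA).Flat) (hρ : Function.Surjective σ.ρ)
    {n : ℕ} (g : Fin n → R) (hg : ∀ i, σ.π (g i) ∈ IA)
    (hgen : IA.map σ.ρA ≤ Ideal.span (Set.range (σ.ρ ∘ g))) :
    IA.comap σ.π ≤ Ideal.span (Set.range g) ⊔ Ideal.span {σ.c σ.t} := by
  classical
  let Q' : Ideal RA := Ideal.span (Set.range (σ.π ∘ g))
  let M : Ideal RA := (IsLocalRing.maximalIdeal A).map σ.cA
  have h1 : IA ≤ Q' ⊔ M * IA := by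
    intro v hv
    obtain ⟨r, hr⟩ := Ideal.mem_span_range_iff_exists_fun.1 (hgen (Ideal.mem_map_of_mem σ.ρA hv))
    choose r' hr' using fun i => hρ (r i)
    let w := ∑ i, σ.π (r' i) * σ.π (g i)
    have hw : w ∈ Q' := sum_mem fun i _ => Ideal.mul_mem_left _ _ (Ideal.subset_span ⟨i, rfl⟩)
    have hw' : w ∈ IA := sum_mem fun i _ => Ideal.mul_mem_left _ _ (hg i)
    have h2 : v - w ∈ M * IA := by
      refine HilbRing.inf_map_le σ.cA hIA _ ⟨sub_mem hv hw', ?_⟩
      rw [SetLike.mem_coe, ← σ.hρAker, RingHom.mem_ker, map_sub, ← hr, map_sum, sub_eq_zero]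
      exact Finset.sum_congr rfl fun i _ => by rw [map_mul, σ.hρπ, σ.hρπ, hr']; rfl
    rw [← add_sub_cancel w v]
    exact Submodule.add_mem_sup hw h2
  have h2 : ∀ N : ℕ, IA ≤ Q' ⊔ M ^ N * IA := by
    intro N
    induction N with
    | zero => rw [pow_zero, Ideal.one_eq_top, Ideal.top_mul]; exact le_sup_right
    | succ N ih =>
      refine ih.trans (sup_le le_sup_left ((Ideal.mul_mono le_rfl h1).trans ?_))
      rw [Ideal.mul_sup, ← mul_assoc, ← pow_succ]
      exact sup_le_sup Ideal.mul_le_right le_rfl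
  obtain ⟨N, hN⟩ := σ.hnil
  have h3 : IA ≤ Q' := by
    refine (h2 N).trans (sup_le le_rfl ?_)
    rw [show M ^ N = ⊥ by rw [← Ideal.map_pow, hN]; exact Ideal.map_bot, Ideal.bot_mul]
    exact bot_le
  intro v hv
  have hv' : σ.π v ∈ (Ideal.span (Set.range g)).map σ.π := by
    rw [Ideal.map_span, ← Set.range_comp]
    exact h3 hv
  obtain ⟨q, hq, hqv⟩ := (Ideal.mem_map_iff_of_surjective _ σ.hπ).1 hv'
  rw [← add_sub_cancel q v]
  refine Submodule.add_mem_sup hq ?_
  rw [← σ.hπker, RingHom.mem_ker, map_sub, hqv, sub_self]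

/-- The local vanishing of the obstruction map. -/
theorem rho_mem [IsNoetherianRing B] (hIA : ((Ideal.Quotient.mk IA).comp σ.cA).Flat) (hρ : Function.Surjective σ.ρ)
    {n : ℕ} (g : Fin n → R) (hg : ∀ i, σ.π (g i) ∈ IA)
    (hgen : IA.map σ.ρA ≤ Ideal.span (Set.range (σ.ρ ∘ g)))
    (hreg : ∀ (i : Fin n) (x : R₀), x * σ.ρ (g i) ∈ Ideal.span ((σ.ρ ∘ g) '' {j | j < i}) →
      x ∈ Ideal.span ((σ.ρ ∘ g) '' {j | j < i}))
    (J' : Ideal R) (hJ' : J'.map σ.ρ ≤ IA.map σ.ρA)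
    (e : R) (he : e ∈ J' * IA.comap σ.π) (he0 : σ.ρ e = 0)
    (μ z : R) (hμ : μ ∈ σ.m.map σ.c * IA.comap σ.π) (hez : e = μ + σ.c σ.t * z) : σ.ρ z ∈ IA.map σ.ρA := by
  classical
  have h1 : e ∈ Ideal.span (Set.range g) ⊔ J' * Ideal.span {σ.c σ.t} := by
    have := Ideal.mul_mono (le_refl J') (comap_le_span σ hIA hρ g hg hgen) he
    rw [Ideal.mul_sup] at this
    exact (sup_le_sup Ideal.mul_le_right le_rfl : _ ≤ Ideal.span (Set.range g) ⊔ J' * Ideal.span {σ.c σ.t}) this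
  obtain ⟨q, hq, w, hw, rfl⟩ := Submodule.mem_sup.1 h1
  obtain ⟨j, hj, rfl⟩ := Ideal.mem_mul_span_singleton.1 hw
  obtain ⟨a, rfl⟩ := Ideal.mem_span_range_iff_exists_fun.1 hq
  have ht0 : σ.ρ (σ.c σ.t) = 0 := by
    rw [← RingHom.mem_ker, σ.hρker]
    exact Ideal.mem_map_of_mem _ σ.htm
  have hrel : ∑ i, σ.ρ (a i) * σ.ρ (g i) = 0 := by
    rw [map_add, map_mul, ht0, mul_zero, add_zero, map_sum] at he0
    simpa using he0
  obtain ⟨a', ha', hsum⟩ := exists_relation σ.ρ hρ n g hreg _ hrel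
  have hqm : ∑ i, a i * g i ∈ σ.m.map σ.c * IA.comap σ.π := by
    have : ∑ i, a i * g i = ∑ i, (a i - a' i) * g i := by
      simp only [sub_mul, Finset.sum_sub_distrib, hsum, sub_zero]
    rw [this]
    refine sum_mem fun i _ => Ideal.mul_mem_mul ?_ (Ideal.mem_comap.2 (hg i))
    rw [← σ.hρker, RingHom.mem_ker, map_sub, ha', sub_self]
  have h2 : σ.c σ.t * (z - j) ∈ σ.m.map σ.c * IA.comap σ.π := by
    have : σ.c σ.t * (z - j) = (∑ i, a i * g i) - μ := by linear_combination -hez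
    rw [this]
    exact sub_mem hqm hμ
  have h3 := rho_mem_of_mem_mul σ hIA _ h2
  rw [map_sub] at h3
  have h4 := add_mem h3 (hJ' (Ideal.mem_map_of_mem _ hj))
  rwa [sub_add_cancel] at h4

end Groth.Agent.ArtFunLib.HilbKoszul
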