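import Groth.Agent.ArtFunLib.HilbKoszul

/-! Local vanishing from lifted relations. -/

set_option autoImplicit false
set_option maxHeartbeats 800000
universe u v w

namespace Groth.Agent.ArtFunLib.HilbRel

/-- Every relation of the reductions lifts. -/
def RelLift {R : Type v} {R₀ : Type w} [CommRing R] [CommRing R₀] (ρ : R →+* R₀) {n : ℕ} (g : Fin n → R) : Prop :=
  ∀ a : Fin n → R₀, ∑ i, a i * ρ (g i) = 0 → ∃ a' : Fin n → R, (∀ i, ρ (a' i) = a i) ∧ ∑ i, a' i * g i = 0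

theorem RelLift.map {R R' : Type v} {R₀ R₀' : Type w} [CommRing R] [CommRing R₀] [CommRing R'] [CommRing R₀']
    {ρ : R →+* R₀} {ρ' : R' →+* R₀'} {n : ℕ} {g : Fin n → R} (hrel : RelLift ρ g) (f : R →+* R') (f₀ : R₀ →+* R₀')
    (hcomm : ∀ r, ρ' (f r) = f₀ (ρ r)) (hf₀ : f₀.Flat) (hρ' : Function.Surjective ρ') : RelLift ρ' (f ∘ g) := by
  classical
  intro a ha
  letI := f₀.toAlgebra
  haveI : Module.Flat R₀ R₀' := hf₀
  have ha' : ∑ i, ρ (g i) • a i = 0 := by
    rw [← ha]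
    refine Finset.sum_congr rfl fun i _ => ?_
    show f₀ (ρ (g i)) * a i = _
    rw [mul_comm, Function.comp_apply, hcomm]
  obtain ⟨K, b, y, hx, hb⟩ := Module.Flat.isTrivialRelation_of_sum_smul_eq_zero (R := R₀) (M := R₀') (f := fun i => ρ (g i)) (x := a) ha'
  choose b' hb' hbg using fun j => hrel (fun i => b i j) (by rw [← hb j]; exact Finset.sum_congr rfl fun i _ => mul_comm _ _)
  choose y' hy' using fun j => hρ' (y j)
  refine ⟨fun i => ∑ j, f (b' j i) * y' j, fun i => ?_, ?_⟩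
  · rw [map_sum, hx i]
    refine Finset.sum_congr rfl fun j _ => ?_
    rw [map_mul, hcomm, hb', hy']
    rfl
  · simp only [Function.comp_apply, Finset.sum_mul]
    rw [Finset.sum_comm]
    refine Finset.sum_eq_zero fun j _ => ?_
    have e : ∑ i, f (b' j i) * y' j * f (g i) = f (∑ i, b' j i * g i) * y' j := by
      rw [map_sum, Finset.sum_mul]
      exact Finset.sum_congr rfl fun i _ => by rw [map_mul]; ring
    rw [e, hbg j, map_zero, zero_mul]

open HilbObsRing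

variable {R : Type v} {R₀ : Type w} [CommRing R] [CommRing R₀]
variable {B A : Type u} [CommRing B] [CommRing A] [IsLocalRing A] {RA : Type v} [CommRing RA]
  (σ : Sit B A R RA R₀) {IA : Ideal RA}

theorem mul_le_span (hIA : ((Ideal.Quotient.mk IA).comp σ.cA).Flat) (hρ : Function.Surjective σ.ρ)
    {n : ℕ} (g : Fin n → R) (hg : ∀ i, σ.π (g i) ∈ IA)
    (hgen : IA.map σ.ρA ≤ Ideal.span (Set.range (σ.ρ ∘ g))) :
    σ.m.map σ.c * IA.comap σ.π ≤ Ideal.span (Set.range g) := by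
  refine (Ideal.mul_mono le_rfl (HilbKoszul.comap_le_span σ hIA hρ g hg hgen)).trans ?_
  rw [Ideal.mul_sup]
  refine sup_le Ideal.mul_le_right ?_
  rw [← Set.image_singleton, ← Ideal.map_span σ.c {σ.t}, ← Ideal.map_mul,
    show σ.m * Ideal.span {σ.t} = ⊥ from ?_, Ideal.map_bot]
  · exact bot_le
  rw [eq_bot_iff, Ideal.mul_le]
  intro a ha b hb
  obtain ⟨d, rfl⟩ := Ideal.mem_span_singleton'.1 hb
  rw [Ideal.mem_bot, ← mul_assoc, mul_comm a d, mul_assoc, σ.hmt a ha, mul_zero]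

/-- The value on the kernel is well defined. -/
theorem rho_mem_span [IsNoetherianRing B] (hIA : ((Ideal.Quotient.mk IA).comp σ.cA).Flat)
    {n : ℕ} (g : Fin n → R) (hg : ∀ i, σ.π (g i) ∈ IA) (hrel : RelLift σ.ρ g)
    (z : R) (hz : σ.c σ.t * z ∈ Ideal.span (Set.range g)) : σ.ρ z ∈ IA.map σ.ρA := by
  classical
  obtain ⟨a, ha⟩ := Ideal.mem_span_range_iff_exists_fun.1 hz
  have ht0 : σ.ρ (σ.c σ.t) = 0 := by
    rw [← RingHom.mem_ker, σ.hρker]
    exact Ideal.mem_map_of_mem _ σ.htm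
  have h0 : ∑ i, σ.ρ (a i) * σ.ρ (g i) = 0 := by
    have := congrArg σ.ρ ha
    rw [map_sum, map_mul σ.ρ (σ.c σ.t), ht0, zero_mul] at this
    simpa using this
  obtain ⟨a', ha', hsum⟩ := hrel _ h0
  refine rho_mem_of_mem_mul σ hIA z ?_
  rw [← ha]
  have e : ∑ i, a i * g i = ∑ i, (a i - a' i) * g i := by
    simp only [sub_mul, Finset.sum_sub_distrib, hsum, sub_zero]
  rw [e]
  refine sum_mem fun i _ => Ideal.mul_mem_mul ?_ (Ideal.mem_comap.2 (hg i))
  rw [← σ.hρker, RingHom.mem_ker, map_sub, ha', sub_self]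

end Groth.Agent.ArtFunLib.HilbRel
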