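import Groth.Agent.ArtFunLib.HilbSmooth
import Groth.Agent.ArtFunLib.HilbRel
import Groth.Agent.LocSplit.Main
import Groth.Agent.H23.Frame
import Groth.Agent.ExtShX.Divisor
import Groth.Prelude.Def_Omega2

/-! Smoothness of the local Hilbert functor from local lifts of relations. -/

set_option autoImplicit false
set_option backward.isDefEq.respectTransparency false
set_option backward.isDefEq.respectTransparency.types false
set_option maxHeartbeats 1000000
universe u

open CategoryTheory CategoryTheory.Limits AlgebraicGeometry ArtFun ArtFun.Art Opposite TopologicalSpace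

noncomputable section

namespace Groth.Agent.ArtFunLib.HilbLocSmooth

open HilbAffine HilbSit HilbMod

theorem flat_res {X : Scheme.{u}} {U V : X.affineOpens} (h : V.1 ≤ U.1) :
    (X.presheaf.map (homOfLE h).op).hom.Flat := by
  have h1 := (𝟙 X : X ⟶ X).flat_appLE U.2 V.2 (show V.1 ≤ (𝟙 X) ⁻¹ᵁ U.1 from h)
  simp only [Scheme.Hom.appLE, Scheme.Hom.id_app, Category.id_comp] at h1
  exact h1

variable {k : Type u} [Field k] {X : Scheme.{u}} (x : X ⟶ specPt k) (I₀ : X.IdealSheafData)

/-- Generators with lifted relations near every point. -/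
def HasLocalData {B A : Art k k} (p : B ⟶ A) (IA : (localHilb X x I₀).obj A) : Prop :=
  ∀ q : X, ∃ U : X.affineOpens, q ∈ U.1 ∧ ∃ (n : ℕ) (g : Fin n → Γ(XA x B, (W x B U).1)),
    (∀ i, pi x p U (g i) ∈ IA.1.ideal (W x A U)) ∧
    I₀.ideal U ≤ Ideal.span (Set.range (rho x B U ∘ g)) ∧ HilbRel.RelLift (rho x B U) g

variable {x I₀}

/-- A local extension. -/
theorem exists_theta_local {B A : Art k k} (p : B ⟶ A) (hp : Function.Surjective p)
    (IA : (localHilb X x I₀).obj A) (t : B) (hkt : RingHom.ker p.toAlgHom.toRingHom = Ideal.span {t}) (ht0 : t ≠ 0)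
    (hm0 : IsLocalRing.maximalIdeal B * Ideal.span {t} = ⊥) (P : (XA x B).IdealSheafData)
    (hP : ∀ U, P.ideal (W x B U) = (IA.1.ideal (W x A U)).comap (pi x p U))
    (φ : G P ⟶ ClSub.idealMod I₀)
    (hφ : ∀ (U : X.affineOpens) s, OmegaSh.idealSect I₀ U.1 (φ.app U.1 s) = rho x B U (el P U s))
    (κ : kernel φ ⟶ ClSub.quotMod I₀)
    (hκ : ∀ (U : X.affineOpens) kk μ z, μ ∈ (IsLocalRing.maximalIdeal B).map (c x B U) * P.ideal (W x B U) →
        el P U ((kernel.ι φ).app U.1 kk) = μ + c x B U t * z →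
        κ.app U.1 kk = I₀.subschemeι.app U.1 (rho x B U z))
    (U : X.affineOpens) {n : ℕ} (g : Fin n → Γ(XA x B, (W x B U).1))
    (hg : ∀ i, pi x p U (g i) ∈ IA.1.ideal (W x A U)) (hgen : I₀.ideal U ≤ Ideal.span (Set.range (rho x B U ∘ g)))
    (hrel : HilbRel.RelLift (rho x B U) g) :
    ∃ θ : (Scheme.Modules.restrictFunctor U.1.ι).obj (G P) ⟶
        (Scheme.Modules.restrictFunctor U.1.ι).obj (ClSub.quotMod I₀),
      (Scheme.Modules.restrictFunctor U.1.ι).map (kernel.ι φ) ≫ θ = (Scheme.Modules.restrictFunctor U.1.ι).map κ := by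
  classical
  have h0A : ∀ V, (IA.1.ideal (W x A V)).map (rho x A V) = I₀.ideal V := fun V => by
    rw [← comap_incl_ideal, IA.2.2]
  let res : ∀ {V V' : X.affineOpens}, V'.1 ≤ V.1 → (Γ(XA x B, (W x B V).1) →+* Γ(XA x B, (W x B V').1)) :=
    fun {V V'} h => ((XA x B).presheaf.map (homOfLE (W_mono x B h)).op).hom
  let gV : ∀ V : X.affineOpens, V.1 ≤ U.1 → Fin n → Γ(XA x B, (W x B V).1) := fun V h => res h ∘ g
  have hIA : ∀ V, ((Ideal.Quotient.mk (IA.1.ideal (W x A V))).comp (c x A V)).Flat :=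
    fun V => flat_quotient x IA.1 IA.2.1 V
  have hgV : ∀ (V : X.affineOpens) (h : V.1 ≤ U.1) (i : Fin n), pi x p V (gV V h i) ∈ IA.1.ideal (W x A V) := fun V h i => by
    show pi x p V ((XA x B).presheaf.map (homOfLE (W_mono x B h)).op (g i)) ∈ _
    rw [pi_map x p h, ← IA.1.map_ideal (U := W x A V) (V := W x A U) (W_mono x A h)]
    exact Ideal.mem_map_of_mem _ (hg i)
  have hgenV : ∀ (V : X.affineOpens) (h : V.1 ≤ U.1), (IA.1.ideal (W x A V)).map (rho x A V) ≤ Ideal.span (Set.range (rho x B V ∘ gV V h)) :=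
    fun V h => by
    have e : rho x B V ∘ gV V h = (X.presheaf.map (homOfLE h).op).hom ∘ rho x B U ∘ g :=
      funext fun i => rho_map x B h (g i)
    rw [h0A, ← I₀.map_ideal (U := V) (V := U) h, e, Set.range_comp, ← Ideal.map_span]
    exact Ideal.map_mono hgen
  have hrelV : ∀ (V : X.affineOpens) (h : V.1 ≤ U.1), HilbRel.RelLift (rho x B V) (gV V h) := fun V h =>
    hrel.map (res h) (X.presheaf.map (homOfLE h).op).hom (fun r => rho_map x B h r) (flat_res h) (rho_spec x B V).1
  let σ := fun V => sit x p hp t hkt ht0 hm0 V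
  have hdec : ∀ (V : X.affineOpens) (h : V.1 ≤ U.1) (s : Γ(G P, V.1)),
      ∃ q z, q ∈ Ideal.span (Set.range (gV V h)) ∧ el P V s = q + c x B V t * z := fun V h s => by
    have h1 := HilbKoszul.comap_le_span (σ V) (hIA V) (rho_spec x B V).1 (gV V h) (hgV V h) (hgenV V h)
      ((hP V).le (el_mem P V s))
    obtain ⟨q, hq, w, hw, e⟩ := Submodule.mem_sup.1 h1
    obtain ⟨z, rfl⟩ := Ideal.mem_span_singleton'.1 hw
    exact ⟨q, z, hq, by rw [← e, mul_comm z]; rfl⟩
  choose fq fz hfq hfe using hdec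
  let θf : ∀ (V : X.affineOpens) (h : V.1 ≤ U.1), Γ(G P, V.1) → Γ(ClSub.quotMod I₀, V.1) := fun V h s =>
    I₀.subschemeι.app V.1 (rho x B V (fz V h s))
  have hval : ∀ (V : X.affineOpens) (h : V.1 ≤ U.1) (s : Γ(G P, V.1)) q z, q ∈ Ideal.span (Set.range (gV V h)) → el P V s = q + c x B V t * z →
      θf V h s = I₀.subschemeι.app V.1 (rho x B V z) := fun V h s q z hq he => by
    rw [← sub_eq_zero]
    show I₀.subschemeι.app V.1 (rho x B V (fz V h s)) - I₀.subschemeι.app V.1 (rho x B V z) = 0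
    rw [← map_sub, ← map_sub, ← RingHom.mem_ker, I₀.ker_subschemeι_app, ← h0A V]
    refine HilbRel.rho_mem_span (σ V) (hIA V) (gV V h) (hgV V h) (hrelV V h) _ ?_
    show c x B V t * (fz V h s - z) ∈ _
    rw [show c x B V t * (fz V h s - z) = q - fq V h s by linear_combination (hfe V h s).symm.trans he]
    exact sub_mem hq (hfq V h s)
  have hadd : ∀ (V : X.affineOpens) (h : V.1 ≤ U.1) (a b : Γ(G P, V.1)), θf V h (a + b) = θf V h a + θf V h b := fun V h a b => by
    rw [hval V h (a + b) (fq V h a + fq V h b) (fz V h a + fz V h b) (add_mem (hfq V h a) (hfq V h b)) (by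
      rw [map_add, hfe V h a, hfe V h b]; ring), map_add]
    exact map_add (I₀.subschemeι.app V.1).hom _ _
  let im : U.1.toScheme.affineOpens → X.affineOpens := fun V' => ⟨U.1.ι ''ᵁ V'.1, V'.2.image_of_isOpenImmersion _⟩
  have him : ∀ V', (im V').1 ≤ U.1 := fun V' => (Scheme.Hom.image_mono U.1.ι le_top).trans U.1.ι_image_top.le
  obtain ⟨θ, hθ⟩ := FamilyHom.exists_hom_of_family (X := U.1.toScheme)
    (M := (Scheme.Modules.restrictFunctor U.1.ι).obj (G P))
    (N := (Scheme.Modules.restrictFunctor U.1.ι).obj (ClSub.quotMod I₀))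
    (fun V' => AddMonoidHom.mk' (fun s => θf (im V') (him V') s) (fun a b => hadd (im V') (him V') a b))
    (fun V' W' h s => by
      have hle : (im W').1 ≤ (im V').1 := Scheme.Hom.image_mono U.1.ι h
      show (ClSub.quotMod I₀).presheaf.map (homOfLE hle).op (θf (im V') (him V') s) =
        θf (im W') (him W') ((G P).presheaf.map (homOfLE hle).op s)
      rw [hval (im W') (him W') _ (res hle (fq (im V') (him V') s)) (res hle (fz (im V') (him V') s)) ?_
        (by rw [el_map P (im V') (im W') hle, hfe (im V') (him V') s, map_add, map_mul]; exact congrArg (_ + · * _) (c_map x B hle t))]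
      · refine Eq.trans ?_ (congrArg _ (rho_map x B hle _).symm)
        exact (congr($(I₀.subschemeι.naturality (homOfLE hle).op) (rho x B (im V') (fz (im V') (him V') s)))).symm
      · have h2 := Ideal.mem_map_of_mem (res hle) (hfq (im V') (him V') s)
        rw [Ideal.map_span, ← Set.range_comp] at h2
        refine (Eq.le ?_ : _ ≤ Ideal.span (Set.range (gV (im W') (him W')))) h2
        refine congrArg (fun f => Ideal.span (Set.range f)) (funext fun i => ?_)
        show (XA x B).presheaf.map _ ((XA x B).presheaf.map _ (g i)) = (XA x B).presheaf.map _ (g i)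
        rw [← ConcreteCategory.comp_apply, ← (XA x B).presheaf.map_comp]
        rfl)
    (fun V' r s => by
      show θf (im V') (him V') (r • s) = r • (show Γ((Scheme.Modules.restrictFunctor U.1.ι).obj (ClSub.quotMod I₀), V'.1)
        from θf (im V') (him V') s)
      rw [show (r • s) = (show Γ(X, (im V').1) from r) • (show Γ(G P, (im V').1) from s) from
          H23.Frame.restrict_smul U.1 V'.1 r s,
        hval (im V') (him V') _ (fstPull x B (im V') r * fq (im V') (him V') s)
          (fstPull x B (im V') r * fz (im V') (him V') s) (Ideal.mul_mem_left _ _ (hfq (im V') (him V') s))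
          (by rw [el_smul, hfe (im V') (him V') s]; ring), map_mul, rho_fst]
      exact (map_mul (I₀.subschemeι.app (im V').1).hom _ _).trans
        (H23.Frame.restrict_smul (M := ClSub.quotMod I₀) U.1 V'.1 r _).symm)
  refine ⟨θ, Scheme.Modules.hom_ext _ _ fun V => ?_⟩
  ext v
  refine FamilyHom.ext_affine _ V _ _ fun V' hV' => ?_
  refine (HilbMod.app_map ((Scheme.Modules.restrictFunctor U.1.ι).map (kernel.ι φ) ≫ θ) hV' v).symm.trans
    (Eq.trans ?_ (HilbMod.app_map ((Scheme.Modules.restrictFunctor U.1.ι).map κ) hV' v))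
  generalize ((Scheme.Modules.restrictFunctor U.1.ι).obj (kernel φ)).presheaf.map (homOfLE hV').op v = kk
  show θ.app V'.1 ((kernel.ι φ).app (im V').1 kk) = κ.app (im V').1 kk
  let kk' : Γ(kernel φ, (im V').1) := kk
  have he0 : rho x B (im V') (el P (im V') ((kernel.ι φ).app (im V').1 kk')) = 0 := by
    have e0 : φ.app (im V').1 ((kernel.ι φ).app (im V').1 kk') = 0 :=
      congr(($(kernel.condition φ)).app (im V').1 kk')
    rw [← hφ, e0, map_zero]
  obtain ⟨μ, hμ, w, hw, e⟩ := Submodule.mem_sup.1 (HilbObsRing.inf_ker_le (σ (im V')) (hIA _)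
    ⟨(hP _).le (el_mem P (im V') _), RingHom.mem_ker.2 he0⟩)
  obtain ⟨z, rfl⟩ := Ideal.mem_span_singleton'.1 hw
  have he : el P (im V') ((kernel.ι φ).app (im V').1 kk') = μ + c x B (im V') t * z := by
    rw [← e, mul_comm z]; rfl
  refine ((hθ V' _).trans (hval (im V') (him V') _ μ z ?_ he)).trans (hκ (im V') kk' μ z ?_ he).symm
  · exact HilbRel.mul_le_span (σ (im V')) (hIA _) (rho_spec x B _).1 (gV (im V') (him V')) (hgV (im V') (him V')) (hgenV (im V') (him V')) hμ
  · rw [hP]; exact hμ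

theorem small_surjective {B A : Art k k} (p : B ⟶ A) (hp : IsSmallExt p) (IA : (localHilb X x I₀).obj A)
    (hloc : HasLocalData x I₀ p IA)
    (h1 : Subsingleton (Coh.HH X ((SheafHomX.hom (ClSub.idealMod I₀)).obj (ClSub.quotMod I₀)) 1)) :
    ∃ I : (localHilb X x I₀).obj B, I.1.comap (XAmap x p) = IA.1 :=
  HilbSmooth.small_surjective_of X x I₀ p hp IA fun t hkt ht0 hm0 P hP φ hepi hφ κ hκ => by
    haveI := hepi
    refine LocSplit.exists_extension φ κ (fun q => ?_) h1
    obtain ⟨U, hqU, n, g, hg, hgen, hrel⟩ := hloc q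
    exact ⟨U.1, hqU, exists_theta_local p hp.1 IA t hkt ht0 hm0 P hP φ hφ κ hκ U g hg hgen hrel⟩

theorem subsingleton_hom_quotMod {Z : Scheme.{u}} (i : Z ⟶ X) [IsClosedImmersion i]
    [DCoh.HasSheafHom (Omega.conormal i)]
    (h1 : Subsingleton (Coh.HH Z ((DCoh.sheafHom (Omega.conormal i)).obj (Coh.structureModule Z)) 1)) :
    Subsingleton (Coh.HH X ((SheafHomX.hom (ClSub.idealMod i.ker)).obj (ClSub.quotMod i.ker)) 1) := by
  obtain ⟨e⟩ := ExtShX.nonempty_push_iso_quotMod i
  refine AmpleVan.subsingleton_of_iso ((SheafHomX.hom _).mapIso e.symm) 1 ?_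
  haveI : DCoh.HasSheafHom ((Scheme.Modules.pullback i).obj (ClSub.idealMod i.ker)) := ‹DCoh.HasSheafHom (Omega.conormal i)›
  exact LocSplit.subsingleton_hom_push i (ClSub.idealMod i.ker) _ h1

theorem surjective_of_local (hloc : ∀ (B A : Art k k) (p : B ⟶ A), IsSmallExt p → ∀ IA, HasLocalData x I₀ p IA)
    (h1 : Subsingleton (Coh.HH X ((SheafHomX.hom (ClSub.idealMod I₀)).obj (ClSub.quotMod I₀)) 1)) :
    IsSmoothFunctor (localHilb X x I₀) := by
  intro B A p hp
  refine ArtFunLib.surjective_induction (P := fun _ _ q => Function.Surjective ((localHilb X x I₀).map q)) ?_ ?_ ?_ p hp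
  · intro A B e he
    haveI := he
    exact ((isIso_iff_bijective _).1 (inferInstance : IsIso ((localHilb X x I₀).map e))).2
  · intro A B q hq IA
    obtain ⟨I, hI⟩ := small_surjective q hq IA (hloc _ _ q hq IA) h1
    exact ⟨I, Subtype.ext hI⟩
  · intro A B C q r _ _ h1 h2
    rw [Functor.map_comp]
    exact h2.comp h1

end Groth.Agent.ArtFunLib.HilbLocSmooth
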