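import Groth.Agent.ExtShX.Divisor
import Groth.Agent.Lib.RegEpiGen
import Groth.Agent.Lib.CurveLinear
import Groth.Agent.H23.PicMul
import Groth.Prelude.Def_Omega2
import Groth.Prelude.Def_DCoh4

/-! Global sections of the normal sheaf as morphisms `I ⟶ O_Y`. -/

set_option autoImplicit false
set_option backward.isDefEq.respectTransparency false
set_option backward.isDefEq.respectTransparency.types false
set_option linter.style.haveILetI false
universe u

open CategoryTheory CategoryTheory.Limits AlgebraicGeometry Opposite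

noncomputable section

namespace Groth.Agent.ArtFunLib.HilbNormal

variable {k : Type u} [Field k] {Z : Scheme.{u}} [Z.Over (Spec (CommRingCat.of k))]

instance linear_tensorBi (C : Z.Modules) : ((DCoh.tensorBi (X := Z)).obj C).Linear k := by
  refine (Functor.linear_iff k _).mpr fun M a => ?_
  rw [KLin.smul_id, KLin.smul_id]
  exact CurveLinear.tensor_map_smul C M _

/-- `Γ(Hom(C, O)) ≅ Hom(C, O)`. -/
theorem nonempty_H0_sheafHom (C : Z.Modules) [DCoh.HasSheafHom C] :
    Nonempty (Coh.HH Z ((DCoh.sheafHom C).obj (Coh.structureModule Z)) 0 ≃ₗ[k] (C ⟶ Coh.structureModule Z)) := by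
  let adj := DCoh.sheafHomAdj C
  let e₀ := LinearEquiv.ofBijective _ (RegEpi.evalOneLin_bijective k ((DCoh.sheafHom C).obj (Coh.structureModule Z)))
  let L := (DCoh.tensorBi (X := Z)).obj C
  let Λ : (Coh.structureModule Z ⟶ (DCoh.sheafHom C).obj (Coh.structureModule Z)) →ₗ[k]
      (L.obj (Coh.structureModule Z) ⟶ Coh.structureModule Z) :=
    (Linear.rightComp k _ (adj.counit.app (Coh.structureModule Z))).comp (L.mapLinearMap k)
  have hΛ : Function.Bijective Λ := by
    have h : ∀ f, Λ f = (adj.homEquiv _ _).symm f := fun f => by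
      rw [adj.homEquiv_counit]
      rfl
    rw [funext h]
    exact (adj.homEquiv _ _).symm.bijective
  obtain ⟨θ⟩ := H23.PicMul.unit C
  let θ' : L.obj (Coh.structureModule Z) ≅ C := θ
  let Μ : (L.obj (Coh.structureModule Z) ⟶ Coh.structureModule Z) →ₗ[k] (C ⟶ Coh.structureModule Z) :=
    Linear.leftComp k _ θ'.inv
  have hΜ : Function.Bijective Μ := ⟨fun a b h => (cancel_epi θ'.inv).1 h, fun g => ⟨θ'.hom ≫ g, by
    show θ'.inv ≫ θ'.hom ≫ g = g
    rw [Iso.inv_hom_id_assoc]⟩⟩
  exact ⟨(e₀.symm ≪≫ₗ LinearEquiv.ofBijective Λ hΛ) ≪≫ₗ LinearEquiv.ofBijective Μ hΜ⟩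

/-- `Γ(N_{Z/X}) ≅ Hom(I, O_X/I)`. -/
theorem nonempty_H0_normal {X : Scheme.{u}} [X.Over (Spec (CommRingCat.of k))] (i : Z ⟶ X)
    [i.IsOver (Spec (CommRingCat.of k))] [IsClosedImmersion i] [DCoh.HasSheafHom (Omega.conormal i)] :
    Nonempty (Coh.HH Z ((DCoh.sheafHom (Omega.conormal i)).obj (Coh.structureModule Z)) 0 ≃ₗ[k]
      (ClSub.idealMod i.ker ⟶ ClSub.quotMod i.ker)) := by
  obtain ⟨e₁⟩ := nonempty_H0_sheafHom (k := k) (Omega.conormal i)
  obtain ⟨q⟩ := ExtShX.nonempty_push_iso_quotMod i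
  let adj := Scheme.Modules.pullbackPushforwardAdjunction i
  let Λ : (Omega.conormal i ⟶ Coh.structureModule Z) →ₗ[k] (ClSub.idealMod i.ker ⟶ ClSub.quotMod i.ker) :=
    ((Linear.leftComp k _ (adj.unit.app (ClSub.idealMod i.ker))).comp
      ((Linear.rightComp k _ q.inv).comp ((Scheme.Modules.pushforward i).mapLinearMap k)))
  have h : ∀ f, Λ f = (adj.homEquiv _ _ f) ≫ q.inv := fun f => by
    show adj.unit.app (ClSub.idealMod i.ker) ≫ (Scheme.Modules.pushforward i).map f ≫ q.inv = _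
    rw [adj.homEquiv_unit, Category.assoc]
  have hΛ : Function.Bijective Λ := by
    refine ⟨fun a b hab => ?_, fun g => ?_⟩
    · rw [h, h, cancel_mono] at hab
      exact (adj.homEquiv _ _).injective hab
    · refine ⟨(adj.homEquiv _ _).symm (g ≫ q.hom), ?_⟩
      rw [h, Equiv.apply_symm_apply, Category.assoc, Iso.hom_inv_id, Category.comp_id]
  exact ⟨e₁ ≪≫ₗ LinearEquiv.ofBijective Λ hΛ⟩

end Groth.Agent.ArtFunLib.HilbNormal
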