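import Groth.Agent.ArtFunLib.HilbConormal
import Groth.Agent.SheafHomX.Extra
import Groth.Agent.KFlatLib.Scheme.PullTensorCx
import Groth.Agent.Lib.CurveDeg
import Groth.Agent.LefLib.Connected
import Groth.Agent.S0002
import Groth.Prelude.Def_DCoh4

/-! Finiteness of the cohomology of the normal sheaf of a regularly immersed proper scheme. -/

set_option autoImplicit false
set_option backward.isDefEq.respectTransparency false
set_option backward.isDefEq.respectTransparency.types false
universe u

open CategoryTheory CategoryTheory.Limits AlgebraicGeometry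

noncomputable section

namespace Groth.Agent.ArtFunLib.HilbNormalFinite

theorem finite {k : Type u} [Field k] {X Y : Scheme.{u}} [Y.Over (Spec (CommRingCat.of k))]
    [IsProper (Y ↘ Spec (CommRingCat.of k))] (i : Y ⟶ X) [IsClosedImmersion i]
    (hreg : Mor2.IsRegularClosedImmersion i) [DCoh.HasSheafHom (Omega.conormal i)] (n : ℕ) :
    Module.Finite k (Coh.HH Y ((DCoh.sheafHom (Omega.conormal i)).obj (Coh.structureModule Y)) n) := by
  haveI : IsLocallyNoetherian Y := LocallyOfFiniteType.isLocallyNoetherian (Y ↘ Spec (CommRingCat.of k))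
  let C := Omega.conormal i
  let e₀ : DCoh.tensorBi.obj C ≅ SheafHomX.ten C := ((KFlatLib.tensorBiFlipIso Y).app C).symm
  let r : SheafHomX.hom C ≅ DCoh.sheafHom C :=
    ((SheafHomX.adj C).ofNatIsoLeft e₀.symm).rightAdjointUniq (DCoh.sheafHomAdj C)
  have h := SheafHomX.isFinLocFree_hom (ExtShX.Fund.isFinLocFree_conormal i hreg)
    (LefLib.isFinLocFree_structureModule (U := Y))
  have h' : FlatMod.IsFinLocFree ((DCoh.sheafHom C).obj (Coh.structureModule Y)) := fun y => by
    obtain ⟨U, m, hy, ⟨e⟩⟩ := h y
    exact ⟨U, m, hy, ⟨(Scheme.Modules.restrictFunctor U.ι).mapIso (r.app _).symm ≪≫ e⟩⟩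
  exact Groth.Agent.S0002.result k Y _ (CurveDeg.isCoh_of_isFinLocFree h') n

end Groth.Agent.ArtFunLib.HilbNormalFinite
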