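import Groth.Agent.ArtFunLib.HilbPatchRing
import Groth.Agent.ArtFunLib.HilbSit
import Groth.Agent.ArtFunLib.HilbIdeal

/-! Schlessinger's conditions for the local Hilbert functor. -/

set_option autoImplicit false
set_option backward.isDefEq.respectTransparency false
set_option maxHeartbeats 800000
universe u

open CategoryTheory CategoryTheory.Limits AlgebraicGeometry ArtFun ArtFun.Art Opposite

namespace Groth.Agent.ArtFunLib.HilbPatch

open HilbAffine HilbSit HilbIdeal Groth.Agent.DefGlueLib

variable {k : Type u} [Field k] {X : Scheme.{u}} (x : X ⟶ specPt k)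

theorem pi_comp {B A C : Art k k} (p : B ⟶ A) (q : A ⟶ C) (U : X.affineOpens) (a : Γ(XA x B, (W x B U).1)) :
    pi x q U (pi x p U a) = pi x (p ≫ q) U a := by
  show ((XAmap x p).appLE (W x B U).1 (W x A U).1 _ ≫ (XAmap x q).appLE (W x A U).1 (W x C U).1 _) a = _
  rw [Scheme.Hom.appLE_comp_appLE]
  exact congr($(appLE_congr (XAmap_comp x p q).symm _ _ _ _) a)

/-- The structure map of the closed fibre. -/
noncomputable def str (U : X.affineOpens) : k →+* Γ(X, U.1) :=
  (rho x (Art.base k k) U).comp (c x (Art.base k k) U)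

theorem isDef_amb (C : Art k k) (U : X.affineOpens) : IsDef C (str x U) (c x C U) (rho x C U) := by
  refine ⟨flat_c x C U, (rho_spec x C U).1, fun y => ?_, (rho_spec x C U).2.le⟩
  show rho x C U (c x C U y) = rho x (Art.base k k) U (c x (Art.base k k) U (C.res y))
  rw [← rho_pi x (toBase C) U, pi_c]
  rfl

theorem isAffineHom_map {B A : Art k k} (p : B ⟶ A) : IsAffineHom (XAmap x p) :=
  MorphismProperty.of_isPullback (P := @IsAffineHom) (isPullback_XAmap x p).flip (inferInstanceAs (IsAffineHom (Spec.map _)))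

theorem map_ideal {B A : Art k k} (p : B ⟶ A) (I : (XA x A).IdealSheafData) (U : X.affineOpens) :
    (I.map (XAmap x p)).ideal (W x B U) = (I.ideal (W x A U)).comap (pi x p U) := by
  haveI := isAffineHom_map x p
  exact Ideal.ext fun a => mem_map_iff (XAmap x p) I (W x B U) (W x A U) (pi_le x p U) (pi_le x p U).le a

variable {I₀ : X.IdealSheafData}

theorem red (C : Art k k) (I : (localHilb X x I₀).obj C) (U : X.affineOpens) :
    (I.1.ideal (W x C U)).map (rho x C U) = I₀.ideal U := by
  rw [← comap_incl_ideal, I.2.2]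

theorem flatIdeal (C : Art k k) (I : (localHilb X x I₀).obj C) (U : X.affineOpens) :
    ((Ideal.Quotient.mk (I.1.ideal (W x C U))).comp (c x C U)).Flat :=
  flat_quotient x I.1 I.2.1 U

variable {A A' A'' B : Art k k} {p' : B ⟶ A'} {p'' : B ⟶ A''} {f' : A' ⟶ A} {f'' : A'' ⟶ A}

theorem patch_at (hB : IsFibreProd p' p'' f' f'') (hf : Function.Surjective f'')
    (I' : (localHilb X x I₀).obj A') (I'' : (localHilb X x I₀).obj A'')
    (h : I'.1.comap (XAmap x f') = I''.1.comap (XAmap x f'')) (U : X.affineOpens) :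
    ((Ideal.Quotient.mk ((I'.1.map (XAmap x p') ⊓ I''.1.map (XAmap x p'')).ideal (W x B U))).comp (c x B U)).Flat ∧
      ((I'.1.map (XAmap x p') ⊓ I''.1.map (XAmap x p'')).ideal (W x B U)).map (pi x p' U) = I'.1.ideal (W x A' U) ∧
      ((I'.1.map (XAmap x p') ⊓ I''.1.map (XAmap x p'')).ideal (W x B U)).map (pi x p'' U) = I''.1.ideal (W x A'' U) ∧
      ((I'.1.map (XAmap x p') ⊓ I''.1.map (XAmap x p'')).ideal (W x B U)).map (rho x B U) = I₀.ideal U := by
  let IA : (localHilb X x I₀).obj A := (localHilb X x I₀).map f' I'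
  have h1 : IA.1 = I'.1.comap (XAmap x f') := rfl
  rw [Scheme.IdealSheafData.ideal_inf, Pi.inf_apply, map_ideal, map_ideal]
  exact HilbPatchRing.patch hB hf (isDef_amb x A U) (isDef_amb x A' U) (isDef_amb x A'' U) (isDef_amb x B U)
    (pi_c x f' U) (pi_c x f'' U) (rho_pi x f' U) (rho_pi x f'' U) (pi_c x p' U) (pi_c x p'' U)
    (rho_pi x p' U) (rho_pi x p'' U) (fun r => by rw [pi_comp, pi_comp, hB.w])
    (flatIdeal x A' I' U) (flatIdeal x A'' I'' U) (flatIdeal x A IA U) (red x A' I' U) (red x A'' I'' U)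
    (by rw [h1, comap_map_ideal]) (by rw [h1, h, comap_map_ideal])

theorem bijective_cmp (hB : IsFibreProd p' p'' f' f'') (hf : Function.Surjective f'') :
    Function.Bijective (cmp (localHilb X x I₀) hB) := by
  constructor
  · intro I₁ I₂ h12
    have key : ∀ I : (localHilb X x I₀).obj B,
        I.1 = (((localHilb X x I₀).map p' I).1.map (XAmap x p') ⊓ ((localHilb X x I₀).map p'' I).1.map (XAmap x p'')) := by
      intro I
      refine ext_ideal x fun U => ?_
      obtain ⟨hfl, -, -, h0⟩ := patch_at x hB hf ((localHilb X x I₀).map p' I) ((localHilb X x I₀).map p'' I)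
        (congrArg Subtype.val (cmp (localHilb X x I₀) hB I).2) U
      have hle : I.1.ideal (W x B U) ≤
          (((localHilb X x I₀).map p' I).1.map (XAmap x p') ⊓ ((localHilb X x I₀).map p'' I).1.map (XAmap x p'')).ideal (W x B U) := by
        rw [Scheme.IdealSheafData.ideal_inf, Pi.inf_apply, map_ideal, map_ideal]
        refine le_inf ?_ ?_
        · rw [show ((localHilb X x I₀).map p' I).1 = I.1.comap (XAmap x p') from rfl, comap_map_ideal]
          exact Ideal.le_comap_map
        · rw [show ((localHilb X x I₀).map p'' I).1 = I.1.comap (XAmap x p'') from rfl, comap_map_ideal]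
          exact Ideal.le_comap_map
      exact le_antisymm hle (HilbPatchRing.le_of_map_le (c x B U) (rho x B U) (rho_spec x B U).2 (rho_spec x B U).1
        hfl hle (h0.le.trans (red x B I U).ge))
    have e' : (localHilb X x I₀).map p' I₁ = (localHilb X x I₀).map p' I₂ := congrArg (fun z => z.1.1) h12
    have e'' : (localHilb X x I₀).map p'' I₁ = (localHilb X x I₀).map p'' I₂ := congrArg (fun z => z.1.2) h12
    refine Subtype.ext ?_
    rw [key I₁, key I₂, e', e'']
  · rintro ⟨⟨I', I''⟩, h⟩
    have h' : I'.1.comap (XAmap x f') = I''.1.comap (XAmap x f'') := congrArg Subtype.val h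
    let I := I'.1.map (XAmap x p') ⊓ I''.1.map (XAmap x p'')
    have hP := patch_at x hB hf I' I'' h'
    refine ⟨⟨I, flat_of_ideals I fun U => (hP U).1, Scheme.IdealSheafData.ext (funext fun U => ?_)⟩,
      Subtype.ext (Prod.ext (Subtype.ext (ext_ideal x fun U => ?_)) (Subtype.ext (ext_ideal x fun U => ?_)))⟩
    · rw [comap_incl_ideal]
      exact (hP U).2.2.2
    · exact (comap_map_ideal x p' I U).trans (hP U).2.1
    · exact (comap_map_ideal x p'' I U).trans (hP U).2.2.1

theorem h0 : H0 (localHilb X x I₀) := by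
  haveI := isAffineHom_incl x (Art.base k k)
  have hinj : ∀ U : X.affineOpens, RingHom.ker (rho x (Art.base k k) U) = ⊥ := fun U => by
    rw [(rho_spec x (Art.base k k) U).2, show IsLocalRing.maximalIdeal (Art.base k k) = ⊥ from
      eq_bot_iff.2 fun z hz => (mem_maximalIdeal_iff _ z).1 hz, Ideal.map_bot]
  have hid : ∀ (I : (XA x (Art.base k k)).IdealSheafData) (U : X.affineOpens),
      I.ideal (W x (Art.base k k) U) =
        ((I.ideal (W x (Art.base k k) U)).map (rho x (Art.base k k) U)).comap (rho x (Art.base k k) U) := fun I U => by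
    rw [Ideal.comap_map_of_surjective _ (rho_spec x (Art.base k k) U).1, ← RingHom.ker_eq_comap_bot, hinj U, sup_bot_eq]
  refine ⟨⟨⟨I₀.map (XAincl x (Art.base k k)), ?_, ?_⟩⟩, ⟨fun a b => Subtype.ext (ext_ideal x fun U => ?_)⟩⟩
  · show Flat _
    exact AssLib.flat_over_field (k := k) _
  · refine Scheme.IdealSheafData.ext (funext fun U => ?_)
    rw [comap_incl_ideal]
    have : (I₀.map (XAincl x (Art.base k k))).ideal (W x (Art.base k k) U) = (I₀.ideal U).comap (rho x (Art.base k k) U) :=
      Ideal.ext fun z => mem_map_iff (XAincl x (Art.base k k)) I₀ (W x (Art.base k k) U) U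
        (rho_le x (Art.base k k) U) (rho_le x (Art.base k k) U).le z
    rw [this, Ideal.map_comap_of_surjective _ (rho_spec x (Art.base k k) U).1]
  · rw [hid a.1 U, hid b.1 U, red x _ a U, red x _ b U]

theorem conditions :
    H0 (localHilb X x I₀) ∧ Heps (localHilb X x I₀) ∧ Hbar (localHilb X x I₀) ∧ HSq (localHilb X x I₀) :=
  ⟨h0 x, fun B A' p' p'' h => bijective_cmp x h (fun y => ⟨_, (dual k k).res_surjective y |>.choose_spec⟩),
    fun _ _ _ _ p' p'' f' f'' h hf => (bijective_cmp x h hf.1).2,
    fun _ _ _ p₁ p₂ f h hf => bijective_cmp x h hf.1⟩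

end Groth.Agent.ArtFunLib.HilbPatch
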