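import Groth.Agent.ArtFunLib.HilbLocSmooth
import Groth.Agent.ArtFunLib.HilbPatch
import Groth.Agent.LocSplit.ObsClass

/-! The obstruction morphisms of a semismall extension, one for each functional on the kernel. -/

set_option autoImplicit false
set_option backward.isDefEq.respectTransparency false
set_option backward.isDefEq.respectTransparency.types false
set_option linter.style.haveILetI false
set_option maxHeartbeats 1000000
universe u

open CategoryTheory CategoryTheory.Limits AlgebraicGeometry ArtFun ArtFun.Art Opposite TopologicalSpace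

noncomputable section

namespace Groth.Agent.ArtFunLib.HilbObsKappa

open HilbAffine HilbSit HilbMod

theorem hom_ext_affine {X : Scheme.{u}} {M N : X.Modules} (f g : M ⟶ N)
    (h : ∀ (U : X.affineOpens) s, f.app U.1 s = g.app U.1 s) : f = g := by
  refine Scheme.Modules.hom_ext _ _ fun V => ?_
  ext v
  exact FamilyHom.ext_affine N V _ _ fun W hW =>
    (app_map f hW v).symm.trans ((h W _).trans (app_map g hW v))

variable {k : Type u} [Field k] {X : Scheme.{u}} (x : X ⟶ specPt k) {I₀ : X.IdealSheafData}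

theorem rho_c (B : Art k k) (U : X.affineOpens) (y : B) :
    rho x B U (c x B U y) =
      (X.presheaf.map (homOfLE (le_top : U.1 ≤ ⊤)).op) (Coh.toGlobal x (B.res y)) := by
  have h1 : (XApr x B).appLE ⊤ (W x B U).1 (fun _ _ => trivial) ≫
      (XAincl x B).appLE (W x B U).1 U.1 (rho_le x B U).le =
      (specRes B).appTop ≫ x.appTop ≫ X.presheaf.map (homOfLE (le_top : U.1 ≤ ⊤)).op := by
    rw [Scheme.Hom.appLE_comp_appLE, appLE_congr (XAincl_snd x B) ⊤ U.1 _ (fun _ _ => trivial),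
      Scheme.Hom.comp_appLE]
    rfl
  have h2 := Scheme.ΓSpecIso_inv_naturality (CommRingCat.ofHom B.res.toRingHom)
  refine (congr($h1 ((Scheme.ΓSpecIso (CommRingCat.of B)).inv y))).trans ?_
  exact congrArg (fun w => (X.presheaf.map (homOfLE (le_top : U.1 ≤ ⊤)).op) (x.appTop w)) (congr($h2 y)).symm

section Amb

variable {B A : Art k k} (p : B ⟶ A) (IA : (localHilb X x I₀).obj A)

/-- The ideal sheaf of the closed subscheme of `X × B`. -/
abbrev amb : (XA x B).IdealSheafData := IA.1.map (XAmap x p)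

theorem amb_ideal (U : X.affineOpens) :
    (amb x p IA).ideal (W x B U) = (IA.1.ideal (W x A U)).comap (pi x p U) := HilbPatch.map_ideal x p IA.1 U

theorem amb_red (hp : Function.Surjective p) (U : X.affineOpens) :
    ((amb x p IA).ideal (W x B U)).map (rho x B U) = I₀.ideal U := by
  rw [amb_ideal, show rho x B U = (rho x A U).comp (pi x p U) from RingHom.ext fun a => (rho_pi x p U a).symm,
    ← Ideal.map_map, Ideal.map_comap_of_surjective _ (pi_spec x p hp U).1]
  exact HilbPatch.red x A IA U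

variable (hp : IsSemismallExt p)

/-- Restriction to the closed fibre. -/
def phi : G (amb x p IA) ⟶ ClSub.idealMod I₀ := (exists_phi (amb x p IA) I₀ (amb_red x p IA hp.1)).choose

instance epi_phi : Epi (phi x p IA hp) := (exists_phi (amb x p IA) I₀ (amb_red x p IA hp.1)).choose_spec.1

theorem phi_spec (U : X.affineOpens) (s) :
    OmegaSh.idealSect I₀ U.1 ((phi x p IA hp).app U.1 s) = rho x B U (el (amb x p IA) U s) :=
  (exists_phi (amb x p IA) I₀ (amb_red x p IA hp.1)).choose_spec.2 U s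

/-- `m P`. -/
abbrev mP (U : X.affineOpens) : Ideal Γ(XA x B, (W x B U).1) :=
  (IsLocalRing.maximalIdeal B).map (c x B U) * (amb x p IA).ideal (W x B U)

/-- The morphism attached to a functional on the kernel. -/
def KSpec (ℓ : ↥(RingHom.ker p.toAlgHom) →ₗ[k] k) (ψ : kernel (phi x p IA hp) ⟶ ClSub.quotMod I₀) : Prop :=
  ∀ (U : X.affineOpens) kk μ (n : ℕ) (a : Fin n → ↥(RingHom.ker p.toAlgHom)) (z : Fin n → Γ(XA x B, (W x B U).1)),
    μ ∈ mP x p IA U → el (amb x p IA) U ((kernel.ι (phi x p IA hp)).app U.1 kk) = μ + ∑ j, c x B U (a j).1 * z j →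
    ψ.app U.1 kk = I₀.subschemeι.app U.1 (rho x B U (∑ j, c x B U (algebraMap k B (ℓ (a j))) * z j))

theorem exists_decomp (U : X.affineOpens) (kk : Γ(kernel (phi x p IA hp), U.1)) :
    ∃ μ, μ ∈ mP x p IA U ∧ ∃ (n : ℕ) (a : Fin n → ↥(RingHom.ker p.toAlgHom)) (z : Fin n → Γ(XA x B, (W x B U).1)),
      el (amb x p IA) U ((kernel.ι (phi x p IA hp)).app U.1 kk) = μ + ∑ j, c x B U (a j).1 * z j := by
  set e := el (amb x p IA) U ((kernel.ι (phi x p IA hp)).app U.1 kk) with hedef
  have he : pi x p U e ∈ IA.1.ideal (W x A U) := (amb_ideal x p IA U).le (el_mem _ U _)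
  have he0 : rho x A U (pi x p U e) = 0 := by
    have e0 : (phi x p IA hp).app U.1 ((kernel.ι (phi x p IA hp)).app U.1 kk) = 0 :=
      congr(($(kernel.condition (phi x p IA hp))).app U.1 kk)
    rw [rho_pi, hedef, ← phi_spec x p IA hp, e0, map_zero]
  have h1 := HilbRing.inf_map_le (c x A U) (flat_quotient x IA.1 IA.2.1 U) (IsLocalRing.maximalIdeal A)
    ⟨he, (rho_spec x A U).2.le (RingHom.mem_ker.2 he0)⟩
  have h2 : (IsLocalRing.maximalIdeal A).map (c x A U) * IA.1.ideal (W x A U) = (mP x p IA U).map (pi x p U) := by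
    rw [Ideal.map_mul, amb_ideal, Ideal.map_comap_of_surjective _ (pi_spec x p hp.1 U).1, Ideal.map_map,
      ← IsLocalRing.map_maximalIdeal_of_surjective p.toAlgHom.toRingHom hp.1, Ideal.map_map,
      show (pi x p U).comp (c x B U) = (c x A U).comp p.toAlgHom.toRingHom from RingHom.ext (pi_c x p U)]
  rw [h2] at h1
  obtain ⟨μ, hμ, hμe⟩ := (Ideal.mem_map_iff_of_surjective _ (pi_spec x p hp.1 U).1).1 h1
  have h3 : e - μ ∈ RingHom.ker (pi x p U) := by rw [RingHom.mem_ker, map_sub, hμe, sub_self]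
  rw [(pi_spec x p hp.1 U).2, Ideal.map, Submodule.mem_span_set'] at h3
  obtain ⟨n, f, g, hfg⟩ := h3
  choose a ha hga using fun j => (g j).2
  refine ⟨μ, hμ, n, fun j => ⟨a j, ha j⟩, f, ?_⟩
  refine (add_sub_cancel μ e).symm.trans (congrArg (μ + ·) (hfg.symm.trans (Finset.sum_congr rfl fun j _ => ?_)))
  show f j * (g j : Γ(XA x B, (W x B U).1)) = c x B U (a j) * f j
  rw [← hga j, mul_comm]

variable {x p IA hp}

theorem KSpec.unique {ℓ : ↥(RingHom.ker p.toAlgHom) →ₗ[k] k} {ψ ψ' : kernel (phi x p IA hp) ⟶ ClSub.quotMod I₀}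
    (h : KSpec x p IA hp ℓ ψ) (h' : KSpec x p IA hp ℓ ψ') : ψ = ψ' :=
  hom_ext_affine _ _ fun U kk => by
    obtain ⟨μ, hμ, n, a, z, he⟩ := exists_decomp x p IA hp U kk
    exact (h U kk μ n a z hμ he).trans (h' U kk μ n a z hμ he).symm

theorem KSpec.zero : KSpec x p IA hp 0 0 := fun U kk μ n a z _ _ => by
  show (0 : Γ(ClSub.quotMod I₀, U.1)) = _
  simp only [LinearMap.zero_apply, map_zero, zero_mul, Finset.sum_const_zero]

theorem KSpec.add {ℓ ℓ' : ↥(RingHom.ker p.toAlgHom) →ₗ[k] k} {ψ ψ' : kernel (phi x p IA hp) ⟶ ClSub.quotMod I₀}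
    (h : KSpec x p IA hp ℓ ψ) (h' : KSpec x p IA hp ℓ' ψ') : KSpec x p IA hp (ℓ + ℓ') (ψ + ψ') :=
  fun U kk μ n a z hμ he => by
    rw [show (ψ + ψ').app U.1 kk = ψ.app U.1 kk + ψ'.app U.1 kk from rfl, h U kk μ n a z hμ he,
      h' U kk μ n a z hμ he]
    refine Eq.trans ?_ (congrArg (fun w => I₀.subschemeι.app U.1 (rho x B U w)) (?_ :
      (∑ j, c x B U (algebraMap k B (ℓ (a j))) * z j) + (∑ j, c x B U (algebraMap k B (ℓ' (a j))) * z j) = _))
    · show _ = I₀.subschemeι.app U.1 (rho x B U (_ + _))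
      rw [map_add (rho x B U)]
      exact (map_add (I₀.subschemeι.app U.1).hom _ _).symm
    · simp only [LinearMap.add_apply, map_add, add_mul, Finset.sum_add_distrib]

theorem KSpec.smul [X.Over (Spec (CommRingCat.of k))] (hX : X ↘ Spec (CommRingCat.of k) = x)
    {ℓ : ↥(RingHom.ker p.toAlgHom) →ₗ[k] k} {ψ : kernel (phi x p IA hp) ⟶ ClSub.quotMod I₀}
    (h : KSpec x p IA hp ℓ ψ) (b : k) :
    KSpec x p IA hp (b • ℓ) (ψ ≫ Formal.smulMod k (ClSub.quotMod I₀) b) :=
  fun U kk μ n a z hμ he => by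
    show (Formal.smulMod k (ClSub.quotMod I₀) b).app U.1 (ψ.app U.1 kk) = _
    rw [h U kk μ n a z hμ he, FFun.smulMod_app, hX]
    have e : (∑ j, c x B U (algebraMap k B ((b • ℓ) (a j))) * z j) =
        c x B U (algebraMap k B b) * ∑ j, c x B U (algebraMap k B (ℓ (a j))) * z j := by
      rw [Finset.mul_sum]
      exact Finset.sum_congr rfl fun j _ => by rw [LinearMap.smul_apply, smul_eq_mul, map_mul, map_mul, mul_assoc]
    rw [e, map_mul, rho_c, AlgHom.commutes]
    exact (map_mul (I₀.subschemeι.app U.1).hom _ _).symm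

/-- The morphism of a small extension as attached to the functional of a generator of the kernel. -/
theorem KSpec.of_kappa (t : B) (ℓ : ↥(RingHom.ker p.toAlgHom) →ₗ[k] k) (hℓ : ∀ a, a.1 = algebraMap k B (ℓ a) * t)
    {κ : kernel (phi x p IA hp) ⟶ ClSub.quotMod I₀}
    (hκ : ∀ (U : X.affineOpens) kk μ z, μ ∈ mP x p IA U →
      el (amb x p IA) U ((kernel.ι (phi x p IA hp)).app U.1 kk) = μ + c x B U t * z →
      κ.app U.1 kk = I₀.subschemeι.app U.1 (rho x B U z)) : KSpec x p IA hp ℓ κ :=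
  fun U kk μ n a z hμ he => hκ U kk μ _ hμ (by
    rw [he, Finset.mul_sum]
    refine congrArg (μ + ·) (Finset.sum_congr rfl fun j _ => ?_)
    conv_lhs => rw [hℓ (a j), map_mul]
    ring)

/-- A functional expressing the kernel of a small extension. -/
theorem exists_small (hp : IsSmallExt p) (t : B) (ht : RingHom.ker p.toAlgHom.toRingHom = Ideal.span {t})
    (ht0 : t ≠ 0) (hm : IsLocalRing.maximalIdeal B * Ideal.span {t} = ⊥)
    (ℓ : ↥(RingHom.ker p.toAlgHom) →ₗ[k] k) (hℓ : ∀ a, a.1 = algebraMap k B (ℓ a) * t) :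
    ∃ ψ, KSpec x p IA hp.isSemismallExt ℓ ψ ∧
      ∀ (_ : HilbLocSmooth.HasLocalData x I₀ p IA), LocSplit.LocExtends (phi x p IA hp.isSemismallExt) ψ := by
  have hIA : ∀ U, ((Ideal.Quotient.mk (IA.1.ideal (W x A U))).comp (c x A U)).Flat :=
    fun U => flat_quotient x IA.1 IA.2.1 U
  have hpt : p t = 0 := RingHom.mem_ker.1 (ht.ge (Ideal.mem_span_singleton_self t))
  have h0A : ∀ U, (IA.1.ideal (W x A U)).map (rho x A U) = I₀.ideal U := HilbPatch.red x A IA
  let φ := phi x p IA hp.isSemismallExt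
  obtain ⟨κ, hκ⟩ := exists_kappa (amb x p IA) I₀ φ (phi_spec x p IA hp.isSemismallExt) t (mP x p IA) rfl
    (fun U e he hρ => by
      rw [amb_ideal] at he
      obtain ⟨μ, hμ, w, hw, e'⟩ := Submodule.mem_sup.1
        (HilbObsRing.inf_ker_le (sit x p hp.1 t ht ht0 hm U) (hIA U) ⟨he, RingHom.mem_ker.2 hρ⟩)
      obtain ⟨z, rfl⟩ := Ideal.mem_span_singleton'.1 hw
      exact ⟨μ, z, by show μ ∈ _ * _; rw [amb_ideal]; exact hμ, e'.symm.trans (by rw [mul_comm z]; rfl)⟩)
    (fun U z hz => by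
      change c x B U t * z ∈ _ * _ at hz
      rw [amb_ideal] at hz
      have := HilbObsRing.rho_mem_of_mem_mul (sit x p hp.1 t ht ht0 hm U) (hIA U) z hz
      rw [← RingHom.mem_ker, I₀.ker_subschemeι_app, ← h0A U]
      exact this)
  refine ⟨κ, KSpec.of_kappa t ℓ hℓ hκ, fun hd q => ?_⟩
  obtain ⟨U, hqU, n, g, hg, hgen, hrel⟩ := hd q
  exact ⟨U.1, hqU, HilbLocSmooth.exists_theta_local p hp.1 IA t ht ht0 hm (amb x p IA) (amb_ideal x p IA) φ
      (phi_spec x p IA hp.isSemismallExt) κ hκ U g hg hgen hrel⟩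

variable (x p IA)

/-- Restriction of the ambient modules along a morphism over `A`. -/
theorem exists_nu {B' : Art k k} (q : B ⟶ B') (p' : B' ⟶ A) (hq : q ≫ p' = p) (hp : IsSemismallExt p)
    (hp' : IsSemismallExt p') :
    ∃ ν : G (amb x p IA) ⟶ G (amb x p' IA), ν ≫ phi x p' IA hp' = phi x p IA hp ∧
      ∀ (U : X.affineOpens) s, el (amb x p' IA) U (ν.app U.1 s) = pi x q U (el (amb x p IA) U s) := by
  have hex : ∀ (U : X.affineOpens) (s : Γ(G (amb x p IA), U.1)),
      ∃ s', el (amb x p' IA) U s' = pi x q U (el (amb x p IA) U s) := fun U s => by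
    refine exists_el _ U _ ?_
    rw [amb_ideal, Ideal.mem_comap, HilbPatch.pi_comp, hq]
    exact (amb_ideal x p IA U).le (el_mem _ U s)
  choose f hf using hex
  obtain ⟨ν, hν⟩ := FamilyHom.exists_hom_of_family
    (fun U => AddMonoidHom.mk' (f U) (fun a b => el_injective _ U (by rw [map_add, hf, hf, hf, map_add, map_add])))
    (fun U V h s => by
      apply el_injective (amb x p' IA) V
      show el _ V ((G (amb x p' IA)).presheaf.map (homOfLE h).op (f U s)) = el _ V (f V _)
      rw [el_map _ U V h, hf, hf, el_map _ U V h, pi_map x q h])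
    (fun U r s => el_injective _ U (by
      show el _ U (f U (r • s)) = el _ U (r • f U s)
      rw [el_smul, hf, hf, el_smul, map_mul]
      congr 1
      show pi x q U ((pullback.fst x (specOver B)).app U.1 r) = _
      have h1 : (pullback.fst x (specOver B)).app U.1 ≫ (XAmap x q).appLE (W x B U).1 (W x B' U).1 (pi_le x q U).le =
          (pullback.fst x (specOver B')).app U.1 := by
        rw [Scheme.Hom.app_eq_appLE]
        refine (Scheme.Hom.appLE_comp_appLE (XAmap x q) (pullback.fst x (specOver B)) U.1 (W x B U).1 (W x B' U).1 le_rfl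
          (pi_le x q U).le).trans ?_
        exact (appLE_congr (XAmap_fst x q) U.1 (W x B' U).1 _ le_rfl).trans (Scheme.Hom.app_eq_appLE _).symm
      exact congr($h1 r)))
  have hval : ∀ (U : X.affineOpens) s, el (amb x p' IA) U (ν.app U.1 s) = pi x q U (el (amb x p IA) U s) :=
    fun U s => (congrArg _ (hν U s)).trans (hf U s)
  refine ⟨ν, hom_ext_affine _ _ fun U s => OmegaLib.idealSect_injective I₀ U.1 ?_, hval⟩
  show OmegaSh.idealSect I₀ U.1 ((phi x p' IA hp').app U.1 (ν.app U.1 s)) = _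
  rw [phi_spec, phi_spec, hval, rho_pi]

variable {x p IA}

theorem KSpec.pull {B' : Art k k} {q : B ⟶ B'} {p' : B' ⟶ A} {hp' : IsSemismallExt p'}
    (qK : ↥(RingHom.ker p.toAlgHom) →ₗ[k] ↥(RingHom.ker p'.toAlgHom)) (hqK : ∀ a, (qK a).1 = q a.1)
    {ν : G (amb x p IA) ⟶ G (amb x p' IA)} (hν : ν ≫ phi x p' IA hp' = phi x p IA hp)
    (hνv : ∀ (U : X.affineOpens) s, el (amb x p' IA) U (ν.app U.1 s) = pi x q U (el (amb x p IA) U s))
    {ℓ' : ↥(RingHom.ker p'.toAlgHom) →ₗ[k] k} {ψ' : kernel (phi x p' IA hp') ⟶ ClSub.quotMod I₀}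
    (h : KSpec x p' IA hp' ℓ' ψ') (hq : q ≫ p' = p) :
    KSpec x p IA hp (ℓ'.comp qK)
      (kernel.map (phi x p IA hp) (phi x p' IA hp') ν (𝟙 _) (by rw [Category.comp_id, hν]) ≫ ψ') := by
  intro U kk μ n a z hμ he
  have hμ' : pi x q U μ ∈ mP x p' IA U := by
    have h1 := Ideal.mem_map_of_mem (pi x q U) hμ
    rw [Ideal.map_mul] at h1
    refine Ideal.mul_mono ?_ ?_ h1
    · rw [Ideal.map_map, show (pi x q U).comp (c x B U) = (c x B' U).comp q.toAlgHom.toRingHom from
        RingHom.ext (pi_c x q U), ← Ideal.map_map]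
      exact Ideal.map_mono (Ideal.map_le_iff_le_comap.2 fun b hb => by
        rw [Ideal.mem_comap, Art.mem_maximalIdeal_iff]
        exact (Art.res_app q b).trans ((Art.mem_maximalIdeal_iff B b).1 hb))
    · rw [amb_ideal, amb_ideal, Ideal.map_le_iff_le_comap, Ideal.comap_comap,
        show (pi x p' U).comp (pi x q U) = pi x p U from RingHom.ext fun r => by
          rw [RingHom.comp_apply, HilbPatch.pi_comp, hq]]
  have hker : (kernel.ι (phi x p' IA hp')).app U.1
      ((kernel.map (phi x p IA hp) (phi x p' IA hp') ν (𝟙 _) (by rw [Category.comp_id, hν])).app U.1 kk) =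
      ν.app U.1 ((kernel.ι (phi x p IA hp)).app U.1 kk) :=
    congr(($(kernel.lift_ι (phi x p' IA hp') (kernel.ι (phi x p IA hp) ≫ ν)
      (by rw [Category.assoc, hν, kernel.condition]))).app U.1 kk)
  refine (h U _ (pi x q U μ) n (fun j => qK (a j)) (fun j => pi x q U (z j)) hμ' ?_).trans ?_
  · refine (congrArg (el (amb x p' IA) U) hker).trans ?_
    rw [hνv, he, map_add, map_sum]
    exact congrArg (_ + ·) (Finset.sum_congr rfl fun j _ => by rw [map_mul, pi_c, hqK])
  · refine congrArg (I₀.subschemeι.app U.1) ?_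
    rw [← rho_pi x q U, map_sum (pi x q U)]
    refine congrArg _ (Finset.sum_congr rfl fun j _ => ?_)
    rw [map_mul, pi_c, LinearMap.comp_apply]
    exact congrArg (c x B' U · * _) (q.toAlgHom.commutes _).symm

theorem locExtends_pull {B' : Art k k} {p' : B' ⟶ A} {hp' : IsSemismallExt p'}
    {ν : G (amb x p IA) ⟶ G (amb x p' IA)} (hν : ν ≫ phi x p' IA hp' = phi x p IA hp)
    {ψ' : kernel (phi x p' IA hp') ⟶ ClSub.quotMod I₀} (h : LocSplit.LocExtends (phi x p' IA hp') ψ') :
    LocSplit.LocExtends (phi x p IA hp)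
      (kernel.map (phi x p IA hp) (phi x p' IA hp') ν (𝟙 _) (by rw [Category.comp_id, hν]) ≫ ψ') := fun q => by
  obtain ⟨U, hqU, θ, hθ⟩ := h q
  refine ⟨U, hqU, (Scheme.Modules.restrictFunctor U.ι).map ν ≫ θ, ?_⟩
  rw [← Category.assoc, ← Functor.map_comp, ← kernel.lift_ι (phi x p' IA hp') (kernel.ι (phi x p IA hp) ≫ ν)
      (by rw [Category.assoc, hν, kernel.condition]), Functor.map_comp, Category.assoc, hθ, ← Functor.map_comp]

end Amb

end Groth.Agent.ArtFunLib.HilbObsKappa
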