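import Groth.Agent.ArtFunLib.HilbObs
import Groth.Agent.ArtFunLib.ObsHR
import Groth.Agent.KRegLib.Kinds
import Groth.Agent.ExtShX.Divisor
import Groth.Prelude.Def_Omega2
import Groth.Prelude.Def_Mor2

/-! The obstruction theory in `H¹(N)` of a regularly immersed subscheme. -/

set_option autoImplicit false
set_option backward.isDefEq.respectTransparency false
set_option backward.isDefEq.respectTransparency.types false
set_option linter.style.haveILetI false
set_option maxHeartbeats 1000000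
universe u

open CategoryTheory CategoryTheory.Limits AlgebraicGeometry ArtFun ArtFun.Art Opposite TopologicalSpace

noncomputable section

namespace Groth.Agent.ArtFunLib.HilbObsLci

open HilbAffine HilbSit

variable {k : Type u} [Field k]

theorem relLift_of_h1 {R : Type u} {R₀ : Type u} [CommRing R] [CommRing R₀] (ρ : R →+* R₀)
    (hρ : Function.Surjective ρ) {n : ℕ} (g : Fin n → R) (h : CAlgX.IsH1Regular (ρ ∘ g)) : HilbRel.RelLift ρ g := by
  classical
  intro a ha
  have h1 := h a ha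
  clear ha
  induction h1 using Submodule.span_induction with
  | mem v hv =>
    obtain ⟨i, j, rfl⟩ := hv
    refine ⟨Pi.single i (g j) - Pi.single j (g i), fun l => ?_, ?_⟩
    · simp only [Pi.sub_apply, map_sub, Pi.single_apply, apply_ite ρ, map_zero]
      rfl
    · simp only [Pi.sub_apply, sub_mul, Finset.sum_sub_distrib, Pi.single_apply, ite_mul, zero_mul,
        Finset.sum_ite_eq', Finset.mem_univ, if_true]
      ring
  | zero => exact ⟨0, fun _ => map_zero ρ, by simp⟩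
  | add v w _ _ ihv ihw =>
    obtain ⟨v', hv', hv0⟩ := ihv
    obtain ⟨w', hw', hw0⟩ := ihw
    exact ⟨v' + w', fun l => by rw [Pi.add_apply, map_add, hv', hw']; rfl, by
      simp [add_mul, Finset.sum_add_distrib, hv0, hw0]⟩
  | smul r v _ ih =>
    obtain ⟨v', hv', hv0⟩ := ih
    obtain ⟨r', rfl⟩ := hρ r
    exact ⟨r' • v', fun l => by rw [Pi.smul_apply, smul_eq_mul, map_mul, hv']; rfl, by
      simp [mul_assoc, ← Finset.mul_sum, hv0]⟩

variable {X : Scheme.{u}} (x : X ⟶ specPt k) (I₀ : X.IdealSheafData)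

theorem hasLocalData_of_h1
    (hloc : ∀ q ∈ Set.range I₀.subschemeι, ∃ U : X.affineOpens, q ∈ U.1 ∧
      ∃ rs : List Γ(X, U.1), CAlgX.IsH1Regular rs.get ∧ I₀.ideal U = Ideal.ofList rs)
    {B A : Art k k} (p : B ⟶ A) (hp : IsSmallExt p) (IA : (localHilb X x I₀).obj A) :
    HilbLocSmooth.HasLocalData x I₀ p IA := by
  classical
  have h0A : ∀ V, (IA.1.ideal (W x A V)).map (rho x A V) = I₀.ideal V := HilbPatch.red x A IA
  intro q
  by_cases hq : q ∈ Set.range I₀.subschemeι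
  · obtain ⟨U, hqU, rs, hrs, hI⟩ := hloc q hq
    have hlift : ∀ l : Fin rs.length, ∃ g, HilbAffine.pi x p U g ∈ IA.1.ideal (W x A U) ∧ rho x B U g = rs.get l := fun l => by
      obtain ⟨a, ha, ha'⟩ := (Ideal.mem_map_iff_of_surjective _ (rho_spec x A U).1).1
        (show rs.get l ∈ (IA.1.ideal (W x A U)).map (rho x A U) by
          rw [h0A]; exact hI.ge (Ideal.subset_span (List.get_mem rs l)))
      obtain ⟨b, rfl⟩ := (pi_spec x p hp.1 U).1 a
      exact ⟨b, ha, (rho_pi x p U b).symm.trans ha'⟩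
    choose g hg hgρ using hlift
    refine ⟨U, hqU, rs.length, g, hg, ?_, relLift_of_h1 _ (rho_spec x B U).1 g ?_⟩
    · rw [hI, show rho x B U ∘ g = rs.get from funext hgρ]
      refine Ideal.span_le.2 fun y hy => Ideal.subset_span ?_
      obtain ⟨l, rfl⟩ := List.mem_iff_get.1 hy
      exact ⟨l, rfl⟩
    · rw [show rho x B U ∘ g = rs.get from funext hgρ]
      exact hrs
  · have ho : IsOpen (Set.range I₀.subschemeι)ᶜ := I₀.subschemeι.isClosedEmbedding.isClosed_range.isOpen_compl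
    obtain ⟨_, ⟨V, hV, rfl⟩, hqV, hVU⟩ := X.isBasis_affineOpens.exists_subset_of_mem_open hq ho
    have htop : I₀.ideal ⟨V, hV⟩ = ⊤ := by
      rw [Ideal.eq_top_iff_one]
      haveI : Subsingleton Γ(I₀.subscheme, I₀.subschemeι ⁻¹ᵁ V) := by
        rw [show I₀.subschemeι ⁻¹ᵁ V = ⊥ from eq_bot_iff.2 fun w hw => (hVU hw ⟨w, rfl⟩).elim]
        infer_instance
      rw [← I₀.ker_subschemeι_app ⟨V, hV⟩, RingHom.mem_ker]
      exact Subsingleton.elim _ _
    obtain ⟨a, ha, ha1⟩ := (Ideal.mem_map_iff_of_surjective _ (rho_spec x A ⟨V, hV⟩).1).1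
      (show (1 : Γ(X, V)) ∈ (IA.1.ideal (W x A ⟨V, hV⟩)).map (rho x A ⟨V, hV⟩) by rw [h0A, htop]; trivial)
    obtain ⟨b, rfl⟩ := (pi_spec x p hp.1 ⟨V, hV⟩).1 a
    have hb1 : rho x B ⟨V, hV⟩ b = 1 := (rho_pi x p _ b).symm.trans ha1
    refine ⟨⟨V, hV⟩, hqV, 1, fun _ => b, fun _ => ha, ?_, fun v hv => ⟨fun _ => 0, fun j => ?_, by simp⟩⟩
    · rw [htop, show (⊤ : Ideal Γ(X, V)) = Ideal.span {1} from Ideal.span_singleton_one.symm]
      refine Ideal.span_mono ?_
      rintro _ rfl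
      exact ⟨0, hb1⟩
    · rw [Fin.sum_univ_one, hb1, mul_one] at hv
      rw [Subsingleton.elim j 0, hv, map_zero]

theorem nonempty_equiv [X.Over (Spec (CommRingCat.of k))] {Z : Scheme.{u}} [Z.Over (Spec (CommRingCat.of k))]
    (i : Z ⟶ X) [IsClosedImmersion i]
    (hi : i ≫ (X ↘ Spec (CommRingCat.of k)) = Z ↘ Spec (CommRingCat.of k))
    [DCoh.HasSheafHom (Omega.conormal i)] :
    Nonempty (HilbObs.V i.ker ≃ₗ[k]
      Coh.HH Z ((DCoh.sheafHom (Omega.conormal i)).obj (Coh.structureModule Z)) 1) := by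
  obtain ⟨q⟩ := ExtShX.nonempty_push_iso_quotMod i
  let M := ClSub.idealMod i.ker
  let C := (Scheme.Modules.pullback i).obj M
  haveI : DCoh.HasSheafHom C := ‹DCoh.HasSheafHom (Omega.conormal i)›
  let e₀ : DCoh.tensorBi.obj M ≅ SheafHomX.ten M := ((KFlatLib.tensorBiFlipIso X).app M).symm
  let adj₁ := ((SheafHomX.adj M).ofNatIsoLeft e₀.symm).comp (Scheme.Modules.pullbackPushforwardAdjunction i)
  let adj₂ := ((Scheme.Modules.pullbackPushforwardAdjunction i).comp (DCoh.sheafHomAdj C)).ofNatIsoLeft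
    ((KFlatLib.pullTensorBiIso i).app M).symm
  let e : (Scheme.Modules.pushforward i).obj ((DCoh.sheafHom C).obj (Coh.structureModule Z)) ≅
      (SheafHomX.hom M).obj (ClSub.quotMod i.ker) :=
    (adj₂.rightAdjointUniq adj₁).app (Coh.structureModule Z) ≪≫ (SheafHomX.hom M).mapIso q.symm
  exact ⟨(FModLib.mapEquiv (A := k) e.symm 1).trans
    (FModLib.eLin i hi ((DCoh.sheafHom C).obj (Coh.structureModule Z)) 1).symm⟩

/-- The obstruction theory with values in `H¹(N)`. -/
theorem hasObsTheory {Z : Scheme.{u}} [Z.Over (Spec (CommRingCat.of k))] (i : Z ⟶ X) [IsClosedImmersion i]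
    (I₀ : X.IdealSheafData) (hker : i.ker = I₀) (hi : i ≫ x = Z ↘ Spec (CommRingCat.of k))
    (hloc : ∀ q ∈ Set.range I₀.subschemeι, ∃ U : X.affineOpens, q ∈ U.1 ∧
      ∃ rs : List Γ(X, U.1), CAlgX.IsH1Regular rs.get ∧ I₀.ideal U = Ideal.ofList rs)
    [DCoh.HasSheafHom (Omega.conormal i)] :
    HasObsTheory (localHilb X x I₀)
      (Coh.HH Z ((DCoh.sheafHom (Omega.conormal i)).obj (Coh.structureModule Z)) 1) := by
  letI : X.Over (Spec (CommRingCat.of k)) := ⟨x⟩
  subst hker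
  obtain ⟨e⟩ := nonempty_equiv (k := k) i hi
  exact ObsHR.hasObsTheory_congr e
    (HilbObs.hasObsTheory (x := x) rfl fun B A p hp IA => hasLocalData_of_h1 x i.ker hloc p hp IA)

theorem h1_of_regular {Z : Scheme.{u}} (i : Z ⟶ X) [IsClosedImmersion i] (hreg : Mor2.IsRegularClosedImmersion i) :
    ∀ q ∈ Set.range i.ker.subschemeι, ∃ U : X.affineOpens, q ∈ U.1 ∧
      ∃ rs : List Γ(X, U.1), CAlgX.IsH1Regular rs.get ∧ i.ker.ideal U = Ideal.ofList rs := by
  intro q hq
  have : q ∈ Set.range i := by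
    rw [Scheme.IdealSheafData.range_subschemeι, Scheme.Hom.support_ker] at hq
    rwa [i.isClosedEmbedding.isClosed_range.closure_eq] at hq
  obtain ⟨z, rfl⟩ := this
  obtain ⟨U, hU, hzU, rs, hrs, hI⟩ := hreg.2 z
  exact ⟨⟨U, hU⟩, hzU, rs, KRegLib.seq_of_isRegular RegImm.Kind.h1 rs hrs, hI⟩

end Groth.Agent.ArtFunLib.HilbObsLci
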