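import Groth.Agent.DefGlueLib.Alg
import Groth.Agent.ArtFunLib.HilbRing

/-! Patching flat embedded deformations along a fibre product of Artinian rings. -/

set_option autoImplicit false
universe u

open CategoryTheory ArtFun ArtFun.Art

namespace Groth.Agent.ArtFunLib.HilbPatchRing

open Groth.Agent.DefGlueLib

variable {k : Type u} [Field k]

/-- A smaller ideal with the same reduction as a flat one is equal to it. -/
theorem le_of_map_le {C : Art k k} {R B₀ : Type u} [CommRing R] [CommRing B₀] (c : C →+* R) (ρ : R →+* B₀)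
    (hker : RingHom.ker ρ = (IsLocalRing.maximalIdeal C).map c) (hρ : Function.Surjective ρ) {I J : Ideal R}
    (hJ : ((Ideal.Quotient.mk J).comp c).Flat) (hIJ : I ≤ J) (h : J.map ρ ≤ I.map ρ) : J ≤ I := by
  let M := (IsLocalRing.maximalIdeal C).map c
  have h1 : J ≤ I ⊔ M * J := by
    intro z hz
    obtain ⟨i, hi, hiz⟩ := (Ideal.mem_map_iff_of_surjective _ hρ).1 (h (Ideal.mem_map_of_mem ρ hz))
    have h2 : z - i ∈ J ⊓ M := ⟨J.sub_mem hz (hIJ hi), by
      show z - i ∈ M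
      rw [← show RingHom.ker ρ = M from hker, RingHom.mem_ker, map_sub, hiz, sub_self]⟩
    exact Submodule.mem_sup.2 ⟨i, hi, z - i, HilbRing.inf_map_le c hJ _ h2, add_sub_cancel _ _⟩
  have h3 : ∀ n : ℕ, J ≤ I ⊔ M ^ n * J := fun n => by
    induction n with
    | zero => rw [pow_zero, Ideal.one_eq_top, Ideal.top_mul]; exact le_sup_right
    | succ n ih =>
      refine ih.trans (sup_le le_sup_left ?_)
      calc M ^ n * J ≤ M ^ n * (I ⊔ M * J) := Ideal.mul_mono_right h1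
        _ ≤ I ⊔ M ^ (n + 1) * J := by
          rw [Ideal.mul_sup, ← _root_.mul_assoc, ← pow_succ]
          exact sup_le_sup_right Ideal.mul_le_right _
  obtain ⟨n, hn⟩ := IsArtinianRing.isNilpotent_jacobson_bot (R := C)
  rw [IsLocalRing.jacobson_eq_maximalIdeal ⊥ bot_ne_top] at hn
  refine (h3 n).trans (sup_le le_rfl ?_)
  rw [show M ^ n = ((IsLocalRing.maximalIdeal C) ^ n).map c from (Ideal.map_pow c _ n).symm, hn,
    show ((0 : Ideal C)).map c = ⊥ from Ideal.map_bot, Ideal.bot_mul]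
  exact bot_le

theorem isDef_quotient {C : Art k k} {R B₀ : Type u} [CommRing R] [CommRing B₀] {s : k →+* B₀} {c : C →+* R}
    {ρ : R →+* B₀} (hd : IsDef C s c ρ) {I₀ : Ideal B₀} {J : Ideal R}
    (hJ : ((Ideal.Quotient.mk J).comp c).Flat) (h0 : J.map ρ = I₀) :
    IsDef C ((Ideal.Quotient.mk I₀).comp s) ((Ideal.Quotient.mk J).comp c)
      (Ideal.quotientMap I₀ ρ (Ideal.map_le_iff_le_comap.1 h0.le)) := by
  refine ⟨hJ, fun y => ?_, fun y => ?_, fun y hy => ?_⟩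
  · obtain ⟨y, rfl⟩ := Ideal.Quotient.mk_surjective y
    obtain ⟨r, rfl⟩ := hd.surjective y
    exact ⟨Ideal.Quotient.mk J r, Ideal.quotientMap_mk⟩
  · show Ideal.quotientMap I₀ ρ _ (Ideal.Quotient.mk J (c y)) = _
    rw [Ideal.quotientMap_mk, hd.comm]
    rfl
  · obtain ⟨r, rfl⟩ := Ideal.Quotient.mk_surjective y
    rw [RingHom.mem_ker, Ideal.quotientMap_mk, Ideal.Quotient.eq_zero_iff_mem, ← h0] at hy
    obtain ⟨j, hj, hjr⟩ := (Ideal.mem_map_iff_of_surjective _ hd.surjective).1 hy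
    have h1 : r - j ∈ (IsLocalRing.maximalIdeal C).map c := hd.ker_le (by
      rw [RingHom.mem_ker, map_sub, hjr, sub_self])
    rw [← Ideal.map_map]
    rw [show Ideal.Quotient.mk J r = Ideal.Quotient.mk J (r - j) by
      rw [map_sub, Ideal.Quotient.eq_zero_iff_mem.2 hj, sub_zero]]
    exact Ideal.mem_map_of_mem _ h1

variable {A A' A'' B : Art k k} {p' : B ⟶ A'} {p'' : B ⟶ A''} {f' : A' ⟶ A} {f'' : A'' ⟶ A}
  {RA R' R'' RB B₀ : Type u} [CommRing RA] [CommRing R'] [CommRing R''] [CommRing RB] [CommRing B₀]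
  {s : k →+* B₀} {cA : A →+* RA} {c' : A' →+* R'} {c'' : A'' →+* R''} {cB : B →+* RB}
  {ρA : RA →+* B₀} {ρ' : R' →+* B₀} {ρ'' : R'' →+* B₀} {ρB : RB →+* B₀}
  {φ' : R' →+* RA} {φ'' : R'' →+* RA} {π' : RB →+* R'} {π'' : RB →+* R''}

/-- Existence of the patched ideal. -/
theorem patch (hB : IsFibreProd p' p'' f' f'') (hf : Function.Surjective f'')
    (hdA : IsDef A s cA ρA) (hd' : IsDef A' s c' ρ') (hd'' : IsDef A'' s c'' ρ'') (hdB : IsDef B s cB ρB)
    (hφ'c : ∀ y, φ' (c' y) = cA (f' y)) (hφ''c : ∀ y, φ'' (c'' y) = cA (f'' y))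
    (hφ'ρ : ∀ r, ρA (φ' r) = ρ' r) (hφ''ρ : ∀ r, ρA (φ'' r) = ρ'' r)
    (hπ'c : ∀ y, π' (cB y) = c' (p' y)) (hπ''c : ∀ y, π'' (cB y) = c'' (p'' y))
    (hπ'ρ : ∀ r, ρ' (π' r) = ρB r) (hπ''ρ : ∀ r, ρ'' (π'' r) = ρB r)
    (hcomm : ∀ r, φ' (π' r) = φ'' (π'' r))
    {I₀ : Ideal B₀} {J' : Ideal R'} {J'' : Ideal R''} {J : Ideal RA}
    (hJ' : ((Ideal.Quotient.mk J').comp c').Flat) (hJ'' : ((Ideal.Quotient.mk J'').comp c'').Flat)
    (hJA : ((Ideal.Quotient.mk J).comp cA).Flat)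
    (h0' : J'.map ρ' = I₀) (h0'' : J''.map ρ'' = I₀) (hJ'A : J'.map φ' = J) (hJ''A : J''.map φ'' = J) :
    ((Ideal.Quotient.mk (J'.comap π' ⊓ J''.comap π'')).comp cB).Flat ∧
      (J'.comap π' ⊓ J''.comap π'').map π' = J' ∧ (J'.comap π' ⊓ J''.comap π'').map π'' = J'' ∧
      (J'.comap π' ⊓ J''.comap π'').map ρB = I₀ := by
  have hφs : Function.Surjective φ'' := ((hd''.map_ker hdA f'' φ'' hφ''c hφ''ρ).2 hf).1
  have hπs : Function.Surjective π' := ((hdB.map_ker hd' p' π' hπ'c hπ'ρ).2 fun a' => by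
    obtain ⟨a'', ha''⟩ := hf (f' a')
    exact ⟨_, (hB.surj a' a'' ha''.symm).choose_spec.1⟩).1
  -- the ambient fibre product
  have hfib : ∀ r' r'', φ' r' = φ'' r'' → ∃ b, π' b = r' ∧ π'' b = r'' := by
    let ψ : RB →+* fibRing φ' φ'' := (π'.prod π'').codRestrict _ hcomm
    have hd := isDef_fib hB hf hdA hd' hd'' hφ'c hφ''c hφ'ρ hφ''ρ (b := ψ.comp cB) hπ'c hπ''c
    have hbij := hdB.bijective hd ψ (fun _ => rfl) hπ'ρ
    intro r' r'' hr
    obtain ⟨b, hb⟩ := hbij.2 ⟨(r', r''), hr⟩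
    exact ⟨b, congrArg (fun z : fibRing φ' φ'' => (z : R' × R'').1) hb,
      congrArg (fun z : fibRing φ' φ'' => (z : R' × R'').2) hb⟩
  have h0A : J.map ρA = I₀ := by
    rw [← hJ'A, Ideal.map_map, show ρA.comp φ' = ρ' from RingHom.ext hφ'ρ, h0']
  let φq' := Ideal.quotientMap J φ' (Ideal.map_le_iff_le_comap.1 hJ'A.le)
  let φq'' := Ideal.quotientMap J φ'' (Ideal.map_le_iff_le_comap.1 hJ''A.le)
  let I := J'.comap π' ⊓ J''.comap π''
  let ψq : RB →+* fibRing φq' φq'' :=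
    (((Ideal.Quotient.mk J').comp π').prod ((Ideal.Quotient.mk J'').comp π'')).codRestrict _ fun r => by
      show φq' (Ideal.Quotient.mk J' (π' r)) = φq'' (Ideal.Quotient.mk J'' (π'' r))
      rw [Ideal.quotientMap_mk, Ideal.quotientMap_mk, hcomm]
  have hψker : RingHom.ker ψq = I := by
    ext r
    rw [RingHom.mem_ker, Subtype.ext_iff, Prod.ext_iff]
    show Ideal.Quotient.mk J' (π' r) = 0 ∧ Ideal.Quotient.mk J'' (π'' r) = 0 ↔ _
    rw [Ideal.Quotient.eq_zero_iff_mem, Ideal.Quotient.eq_zero_iff_mem]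
    rfl
  have hψs : Function.Surjective ψq := by
    rintro ⟨⟨y', y''⟩, hy⟩
    obtain ⟨r', rfl⟩ := Ideal.Quotient.mk_surjective y'
    obtain ⟨r'', rfl⟩ := Ideal.Quotient.mk_surjective y''
    have hy' : φ' r' - φ'' r'' ∈ J''.map φ'' := by
      rw [hJ''A, ← Ideal.Quotient.eq_zero_iff_mem, map_sub, sub_eq_zero]
      exact (Ideal.quotientMap_mk (f := φ')).symm.trans ((show φq' (Ideal.Quotient.mk J' r') =
        φq'' (Ideal.Quotient.mk J'' r'') from hy).trans Ideal.quotientMap_mk)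
    obtain ⟨j, hj, hje⟩ := (Ideal.mem_map_iff_of_surjective _ hφs).1 hy'
    obtain ⟨b, hb', hb''⟩ := hfib r' (r'' + j) (by rw [map_add, hje, add_sub_cancel])
    refine ⟨b, Subtype.ext (Prod.ext ?_ ?_)⟩
    · show Ideal.Quotient.mk J' (π' b) = _
      rw [hb']
    · show Ideal.Quotient.mk J'' (π'' b) = _
      rw [hb'', map_add, Ideal.Quotient.eq_zero_iff_mem.2 hj, add_zero]
  have hflat : ((Ideal.Quotient.mk I).comp cB).Flat := by
    have hd := isDef_fib hB hf (isDef_quotient hdA hJA h0A) (isDef_quotient hd' hJ' h0')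
      (isDef_quotient hd'' hJ'' h0'') (φ' := φq') (φ'' := φq'')
      (fun y => (Ideal.quotientMap_mk (f := φ')).trans (congrArg (Ideal.Quotient.mk J) (hφ'c y)))
      (fun y => (Ideal.quotientMap_mk (f := φ'')).trans (congrArg (Ideal.Quotient.mk J) (hφ''c y)))
      (fun r => by
        obtain ⟨r, rfl⟩ := Ideal.Quotient.mk_surjective r
        show Ideal.quotientMap I₀ ρA _ (Ideal.quotientMap J φ' _ (Ideal.Quotient.mk J' r)) = _
        rw [Ideal.quotientMap_mk, Ideal.quotientMap_mk, Ideal.quotientMap_mk, hφ'ρ])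
      (fun r => by
        obtain ⟨r, rfl⟩ := Ideal.Quotient.mk_surjective r
        show Ideal.quotientMap I₀ ρA _ (Ideal.quotientMap J φ'' _ (Ideal.Quotient.mk J'' r)) = _
        rw [Ideal.quotientMap_mk, Ideal.quotientMap_mk, Ideal.quotientMap_mk, hφ''ρ])
      (b := ψq.comp cB) (fun y => congrArg (Ideal.Quotient.mk J') (hπ'c y))
      (fun y => congrArg (Ideal.Quotient.mk J'') (hπ''c y))
    let e := (RingHom.quotientKerEquivOfSurjective hψs)
    let e₂ : RB ⧸ I ≃+* fibRing φq' φq'' := (Ideal.quotEquivOfEq hψker.symm).trans e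
    have hfl := hd.flat.comp (RingHom.Flat.of_bijective (f := e₂.symm.toRingHom) e₂.symm.bijective)
    convert hfl using 1
    refine RingHom.ext fun y => e₂.injective ?_
    show e₂ (Ideal.Quotient.mk I (cB y)) = e₂ (e₂.symm (ψq (cB y)))
    rw [e₂.apply_symm_apply]
    rfl
  have hI' : I.map π' = J' := by
    refine le_antisymm (Ideal.map_le_iff_le_comap.2 inf_le_left) fun j hj => ?_
    have h1 : φ' j ∈ J''.map φ'' := hJ''A.symm ▸ hJ'A ▸ Ideal.mem_map_of_mem φ' hj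
    obtain ⟨j'', hj'', he⟩ := (Ideal.mem_map_iff_of_surjective _ hφs).1 h1
    obtain ⟨b, hb', hb''⟩ := hfib j j'' he.symm
    rw [← hb']
    exact Ideal.mem_map_of_mem π' ⟨by show π' b ∈ J'; rw [hb']; exact hj, by show π'' b ∈ J''; rw [hb'']; exact hj''⟩
  have hI0 : I.map ρB = I₀ := by
    rw [show ρB = ρ'.comp π' from RingHom.ext fun r => (hπ'ρ r).symm, ← Ideal.map_map, hI', h0']
  refine ⟨hflat, hI', le_antisymm (Ideal.map_le_iff_le_comap.2 inf_le_right) ?_, hI0⟩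
  refine le_of_map_le c'' ρ'' ?_ hd''.surjective hJ'' (Ideal.map_le_iff_le_comap.2 inf_le_right) ?_
  · refine le_antisymm hd''.ker_le (Ideal.map_le_iff_le_comap.2 fun y hy => ?_)
    rw [Ideal.mem_comap, RingHom.mem_ker, hd''.comm, (mem_maximalIdeal_iff A'' y).1 hy, map_zero]
  · rw [Ideal.map_map, show ρ''.comp π'' = ρB from RingHom.ext hπ''ρ]
    exact h0''.le.trans hI0.ge

end Groth.Agent.ArtFunLib.HilbPatchRing
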