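import Groth.Agent.ArtFunLib.HilbSmooth
import Groth.Agent.ArtFunLib.HilbKoszul
import Groth.Agent.ArtFunLib.HilbClosedExt
import Groth.Agent.H1PP.GrMap
import Groth.Agent.ExtShX.Divisor
import Groth.Prelude.Def_Omega2
import Groth.Prelude.Def_Mor2
import Mathlib.RingTheory.Regular.Flat

/-! Smoothness of the local Hilbert functor of a regularly immersed subscheme. -/

set_option autoImplicit false
set_option backward.isDefEq.respectTransparency false
set_option backward.isDefEq.respectTransparency.types false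
set_option maxHeartbeats 1000000
universe u

open CategoryTheory CategoryTheory.Limits AlgebraicGeometry ArtFun ArtFun.Art Opposite TopologicalSpace

noncomputable section

namespace Groth.Agent.ArtFunLib.HilbRegSmooth

open HilbAffine HilbSit HilbMod

variable {k : Type u} [Field k] {X : Scheme.{u}} (x : X ⟶ specPt k) (I₀ : X.IdealSheafData)

/-- Around every point there are small affines on which the ideal is weakly regular or the unit ideal. -/
theorem exists_good (hreg : ∀ q ∈ Set.range I₀.subschemeι, ∃ (U : X.Opens) (hU : IsAffineOpen U), q ∈ U ∧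
      ∃ rs : List Γ(X, U), RingTheory.Sequence.IsRegular Γ(X, U) rs ∧ I₀.ideal ⟨U, hU⟩ = Ideal.ofList rs)
    (U : X.Opens) (p : X) (hp : p ∈ U) :
    ∃ V : X.affineOpens, p ∈ V.1 ∧ V.1 ≤ U ∧
      (I₀.ideal V = ⊤ ∨ ∃ rs : List Γ(X, V.1), RingTheory.Sequence.IsWeaklyRegular Γ(X, V.1) rs ∧
        I₀.ideal V = Ideal.ofList rs) := by
  by_cases hr : p ∈ Set.range I₀.subschemeι
  · obtain ⟨z, rfl⟩ := hr
    obtain ⟨Uz, hUz, hz, rs, hrs, hI⟩ := hreg _ ⟨z, rfl⟩
    obtain ⟨_, ⟨V, hV, rfl⟩, hpV, hVU⟩ :=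
      X.isBasis_affineOpens.exists_subset_of_mem_open (show I₀.subschemeι z ∈ U ⊓ Uz from ⟨hp, hz⟩) (U ⊓ Uz).2
    have hle : V ≤ Uz := fun a ha => (hVU ha).2
    refine ⟨⟨V, hV⟩, hpV, fun a ha => (hVU ha).1, Or.inr ?_⟩
    let f := (X.presheaf.map (homOfLE hle).op).hom
    have hflat : f.Flat := by
      have h := (𝟙 X : X ⟶ X).flat_appLE hUz hV (show V ≤ (𝟙 X) ⁻¹ᵁ Uz from hle)
      simp only [Scheme.Hom.appLE, Scheme.Hom.id_app, Category.id_comp] at h
      exact h
    letI : Algebra Γ(X, Uz) Γ(X, V) := f.toAlgebra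
    haveI : Module.Flat Γ(X, Uz) Γ(X, V) := hflat
    refine ⟨rs.map f, hrs.toIsWeaklyRegular.of_flat (S := Γ(X, V)), ?_⟩
    rw [← I₀.map_ideal (U := ⟨V, hV⟩) (V := ⟨Uz, hUz⟩) hle,
      hI, Ideal.map_ofList]
    rfl
  · have ho : IsOpen (Set.range I₀.subschemeι)ᶜ := I₀.subschemeι.isClosedEmbedding.isClosed_range.isOpen_compl
    obtain ⟨_, ⟨V, hV, rfl⟩, hpV, hVU⟩ :=
      X.isBasis_affineOpens.exists_subset_of_mem_open (show p ∈ (U : Set X) ∩ (Set.range I₀.subschemeι)ᶜ from ⟨hp, hr⟩)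
        (U.2.inter ho)
    refine ⟨⟨V, hV⟩, hpV, fun a ha => (hVU ha).1, Or.inl ((Ideal.eq_top_iff_one _).2 ?_)⟩
    haveI : Subsingleton Γ(I₀.subscheme, I₀.subschemeι ⁻¹ᵁ V) := by
      rw [show I₀.subschemeι ⁻¹ᵁ V = ⊥ from eq_bot_iff.2 fun w hw => ((hVU hw).2 ⟨w, rfl⟩).elim]
      infer_instance
    rw [← I₀.ker_subschemeι_app, RingHom.mem_ker]
    exact Subsingleton.elim _ _

theorem small_surjective_of_immersion {Z : Scheme.{u}} (i : Z ⟶ X) [IsClosedImmersion i] [HasExt.{u} Z.Modules]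
    (hker : i.ker = I₀) (hreg : Mor2.IsRegularClosedImmersion i)
    (h1 : Subsingleton (Abelian.Ext.{u} (Omega.conormal i) (Coh.structureModule Z) 1))
    {B A : Art k k} (p : B ⟶ A) (hp : IsSmallExt p) (IA : (localHilb X x I₀).obj A) :
    ∃ I : (localHilb X x I₀).obj B, I.1.comap (XAmap x p) = IA.1 := by
  classical
  refine HilbSmooth.small_surjective_of X x I₀ p hp IA fun t hkt ht0 hm0 P hP φ hepi hφ κ hκ => ?_
  haveI := hepi
  haveI : IsAffineHom (pullback.fst x (specOver B)) :=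
    MorphismProperty.pullback_fst (P := @IsAffineHom) x (specOver B) inferInstance
  have hGq : Coh.IsQCoh (G P) := QCoh.isQCoh_pushforward _ (H1PP.GrMap.isQCoh_idealMod P)
  have h0A : ∀ U, (IA.1.ideal (W x A U)).map (rho x A U) = I₀.ideal U := fun U => by
    rw [← comap_incl_ideal, IA.2.2]
  have h0 : ∀ U, (P.ideal (W x B U)).map (rho x B U) = I₀.ideal U := fun U => by
    rw [hP, show rho x B U = (rho x A U).comp (pi x p U) from RingHom.ext fun a => (rho_pi x p U a).symm,
      ← Ideal.map_map, Ideal.map_comap_of_surjective _ (pi_spec x p hp.1 U).1, h0A]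
  have hsurj : ∀ U : X.affineOpens, Function.Surjective (φ.app U.1) := fun U v => by
    obtain ⟨a, ha, hav⟩ := (Ideal.mem_map_iff_of_surjective _ (rho_spec x B U).1).1
      ((h0 U).symm ▸ OmegaLib.idealSect_mem I₀ U v)
    obtain ⟨s, rfl⟩ := exists_el P U a ha
    exact ⟨s, OmegaLib.idealSect_injective I₀ U.1 ((hφ U s).trans hav)⟩
  subst hker
  obtain ⟨qiso⟩ := ExtShX.nonempty_push_iso_quotMod i
  have hloc : ∀ q ∈ Set.range i.ker.subschemeι, ∃ (U : X.Opens) (hU : IsAffineOpen U), q ∈ U ∧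
      ∃ rs : List Γ(X, U), RingTheory.Sequence.IsRegular Γ(X, U) rs ∧ i.ker.ideal ⟨U, hU⟩ = Ideal.ofList rs := by
    intro q hq
    have : q ∈ Set.range i := by
      rw [Scheme.IdealSheafData.range_subschemeι, Scheme.Hom.support_ker] at hq
      rwa [i.isClosedEmbedding.isClosed_range.closure_eq] at hq
    obtain ⟨z, rfl⟩ := this
    exact hreg.2 z
  refine HilbClosedExt.exists_extension i hGq (H1PP.GrMap.isQCoh_idealMod i.ker) φ hsurj h1 qiso κ
    fun U v hv => ?_
  have hgood := fun q : U.1 => exists_good i.ker hloc U.1 q.1 q.2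
  choose V hqV hVU hgood using hgood
  refine TopCat.Sheaf.eq_of_locally_eq' ⟨(ClSub.quotMod i.ker).presheaf, Scheme.Modules.isSheaf _⟩
    (fun q => (V q).1) U.1 (fun q => homOfLE (hVU q)) (fun a ha => Opens.mem_iSup.2 ⟨⟨a, ha⟩, hqV ⟨a, ha⟩⟩) _ _
    fun q => ?_
  show (ClSub.quotMod i.ker).presheaf.map (homOfLE (hVU q)).op (κ.app U.1 v) =
    (ClSub.quotMod i.ker).presheaf.map (homOfLE (hVU q)).op 0
  rw [map_zero, ← app_map]
  set W' := V q
  set v' := (kernel φ).presheaf.map (homOfLE (hVU q)).op v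
  let e := el P W' ((kernel.ι φ).app W'.1 v')
  have he0 : rho x B W' e = 0 := by
    have e0 : φ.app W'.1 ((kernel.ι φ).app W'.1 v') = 0 := congr(($(kernel.condition φ)).app W'.1 v')
    rw [← hφ, e0, map_zero]
  have heJ : e ∈ (i.ker.ideal W').map (fstPull x B W') * (IA.1.ideal (W x A W')).comap (pi x p W') := by
    rw [← hP]
    have h2 : ∀ s ∈ ((i.ker.ideal U) • (⊤ : Submodule Γ(X, U.1) Γ(G P, U.1))),
        el P W' ((G P).presheaf.map (homOfLE (hVU q)).op s) ∈
          (i.ker.ideal W').map (fstPull x B W') * P.ideal (W x B W') := fun s hs => by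
      refine Submodule.smul_induction_on hs (fun a ha n _ => ?_) fun m₁ m₂ h₁ h₂ => ?_
      · rw [Scheme.Modules.map_smul, el_smul]
        refine Ideal.mul_mem_mul (Ideal.mem_map_of_mem _ ?_) (el_mem P W' _)
        rw [← i.ker.map_ideal (U := W') (V := U) (hVU q)]
        exact Ideal.mem_map_of_mem _ ha
      · rw [map_add, map_add]
        exact add_mem h₁ h₂
    show el P W' ((kernel.ι φ).app W'.1 v') ∈ _
    rw [app_map]
    exact h2 _ hv
  have hIA : ((Ideal.Quotient.mk (IA.1.ideal (W x A W'))).comp (c x A W')).Flat := flat_quotient x IA.1 IA.2.1 W'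
  let σ := sit x p hp.1 t hkt ht0 hm0 W'
  obtain ⟨μ, hμ, w, hw, hμw⟩ := Submodule.mem_sup.1 (HilbObsRing.inf_ker_le σ hIA
    ⟨hP W' ▸ el_mem P W' _, RingHom.mem_ker.2 he0⟩)
  obtain ⟨z, rfl⟩ := Ideal.mem_span_singleton'.1 hw
  have hez : e = μ + c x B W' t * z := by rw [mul_comm (c x B W' t)]; exact hμw.symm
  rw [hκ W' v' μ z (by rw [hP]; exact hμ) hez]
  suffices rho x B W' z ∈ i.ker.ideal W' by
    rwa [← i.ker.ker_subschemeι_app, RingHom.mem_ker] at this
  rcases hgood q with htop | ⟨rs, hrs, hrsI⟩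
  · rw [htop]; exact Submodule.mem_top
  · have hlift : ∀ i : Fin rs.length, ∃ a ∈ P.ideal (W x B W'), rho x B W' a = rs[i] := fun i => by
      refine (Ideal.mem_map_iff_of_surjective _ (rho_spec x B W').1).1 ?_
      rw [h0, hrsI]
      exact Ideal.subset_span (List.getElem_mem _)
    choose g hgP hgρ using hlift
    have hρg : (σ.ρ ∘ g) = fun j : Fin rs.length => rs[j] := funext hgρ
    have hsep : ∀ (i : Fin rs.length) (a : Γ(X, W'.1)), a * σ.ρ (g i) ∈ Ideal.span ((σ.ρ ∘ g) '' {j | j < i}) →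
        a ∈ Ideal.span ((σ.ρ ∘ g) '' {j | j < i}) := fun i a ha => by
      rw [hρg] at ha ⊢
      rw [show σ.ρ (g i) = rs[i] from hgρ i] at ha
      exact HilbKoszul.sep_of_isWeaklyRegular rs hrs i a ha
    have hJ : ((i.ker.ideal W').map (fstPull x B W')).map σ.ρ ≤ (IA.1.ideal (W x A W')).map σ.ρA := by
      rw [Ideal.map_map, show σ.ρA = rho x A W' from rfl, h0A]
      exact le_of_eq ((congrArg (fun f => Ideal.map f (i.ker.ideal W')) (RingHom.ext (rho_fst x B W'))).trans
        (Ideal.map_id _))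
    have hgen : (IA.1.ideal (W x A W')).map σ.ρA ≤ Ideal.span (Set.range (σ.ρ ∘ g)) := by
      rw [show σ.ρA = rho x A W' from rfl, h0A, hrsI, hρg]
      refine Ideal.span_le.2 fun y hy => Ideal.subset_span ?_
      obtain ⟨i, hi, rfl⟩ := List.mem_iff_getElem.1 hy
      exact ⟨⟨i, hi⟩, rfl⟩
    have := HilbKoszul.rho_mem σ hIA (rho_spec x B W').1 g
      (fun i => by have := hgP i; rwa [hP] at this) hgen hsep _ hJ e heJ he0 μ z hμ hez
    rwa [show σ.ρA = rho x A W' from rfl, h0A] at this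

theorem small_surjective (hreg : Mor2.IsRegularClosedImmersion I₀.subschemeι) [HasExt.{u} I₀.subscheme.Modules]
    (h1 : Subsingleton (Abelian.Ext.{u} (Omega.conormal I₀.subschemeι) (Coh.structureModule I₀.subscheme) 1))
    {B A : Art k k} (p : B ⟶ A) (hp : IsSmallExt p) (IA : (localHilb X x I₀).obj A) :
    ∃ I : (localHilb X x I₀).obj B, I.1.comap (XAmap x p) = IA.1 :=
  small_surjective_of_immersion x I₀ I₀.subschemeι I₀.ker_subschemeι hreg h1 p hp IA

theorem isSmooth_of_immersion {Z : Scheme.{u}} (i : Z ⟶ X) [IsClosedImmersion i] [HasExt.{u} Z.Modules]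
    (hreg : Mor2.IsRegularClosedImmersion i)
    (h1 : Subsingleton (Abelian.Ext.{u} (Omega.conormal i) (Coh.structureModule Z) 1)) :
    IsSmoothFunctor (localHilb X x i.ker) := by
  intro B A p hp
  refine ArtFunLib.surjective_induction (P := fun _ _ q => Function.Surjective ((localHilb X x i.ker).map q)) ?_ ?_ ?_ p hp
  · intro A B e he
    haveI := he
    exact ((isIso_iff_bijective _).1 (inferInstance : IsIso ((localHilb X x i.ker).map e))).2
  · intro A B q hq IA
    obtain ⟨I, hI⟩ := small_surjective_of_immersion x i.ker i rfl hreg h1 q hq IA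
    exact ⟨I, Subtype.ext hI⟩
  · intro A B C q r _ _ h1 h2
    rw [Functor.map_comp]
    exact h2.comp h1

theorem isSmooth (hreg : Mor2.IsRegularClosedImmersion I₀.subschemeι) [HasExt.{u} I₀.subscheme.Modules]
    (h1 : Subsingleton (Abelian.Ext.{u} (Omega.conormal I₀.subschemeι) (Coh.structureModule I₀.subscheme) 1)) :
    IsSmoothFunctor (localHilb X x I₀) := by
  intro B A p hp
  refine ArtFunLib.surjective_induction (P := fun _ _ q => Function.Surjective ((localHilb X x I₀).map q)) ?_ ?_ ?_ p hp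
  · intro A B e he
    haveI := he
    exact ((isIso_iff_bijective _).1 (inferInstance : IsIso ((localHilb X x I₀).map e))).2
  · intro A B q hq IA
    obtain ⟨I, hI⟩ := small_surjective x I₀ hreg h1 q hq IA
    exact ⟨I, Subtype.ext hI⟩
  · intro A B C q r _ _ h1 h2
    rw [Functor.map_comp]
    exact h2.comp h1

end Groth.Agent.ArtFunLib.HilbRegSmooth
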